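import Groth.Agent.Ega4Algebra2.NormalRingBasic
import Groth.Agent.EtaleAlgebra.Abhyankar
import Groth.Agent.Pi1Normal.EtaleAlg

/-!
Algebra for cyclic covers: a birational map from a normal ring to an integral extension is bijective;
roots of units give étale algebras.
-/

universe u

set_option autoImplicit false

namespace Groth.Calg6.CycCov

open Polynomial

/-- An injective map `φ : E → C` of `B`-algebras, `C` integral over `B`, `E` normal, which becomes
surjective after inverting a non zero divisor `g` of `E` and `C`, is surjective. -/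
theorem surjective_of_normal {B E C : Type u} [CommRing B] [CommRing E] [CommRing C] [Algebra B E]
    [Algebra B C] (φ : E →ₐ[B] C) (hφ : Function.Injective φ) (hE : EGA4.IsNormalRing E)
    (hC : ∀ c : C, IsIntegral B c) (g : B)
    (hgC : ∀ c : C, algebraMap B C g * c = 0 → c = 0)
    (h : ∀ c : C, ∃ (m : ℕ) (a : E), φ a = algebraMap B C g ^ m * c) : Function.Surjective φ := by
  intro c
  obtain ⟨m, a, ha⟩ := h c
  have hgE : algebraMap B E g ^ m ∈ nonZeroDivisors E := by
    refine pow_mem (mem_nonZeroDivisors_iff_right.mpr fun e he => hφ ?_) m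
    rw [map_zero]
    refine hgC _ ?_
    rw [mul_comm, ← φ.commutes, ← map_mul, he, map_zero]
  let T := Localization.Away (algebraMap B E g ^ m)
  have hM : Submonoid.powers (algebraMap B E g ^ m) ≤ nonZeroDivisors E :=
    Submonoid.powers_le.mpr hgE
  obtain ⟨p, hp, hpc⟩ := hC c
  let s : Submonoid.powers (algebraMap B E g ^ m) := ⟨_, Submonoid.mem_powers _⟩
  have h0 : ((p.map (algebraMap B E)).scaleRoots (algebraMap B E g ^ m)).eval a = 0 := by
    apply hφ
    rw [map_zero]
    show (φ : E →+* C) _ = 0
    rw [← eval₂_at_apply]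
    show eval₂ (φ : E →+* C) (φ a) _ = 0
    rw [ha, ← φ.commutes, ← map_pow]
    show eval₂ (φ : E →+* C) ((φ : E →+* C) (algebraMap B E g ^ m) * c) _ = 0
    rw [scaleRoots_eval₂_mul, eval₂_map, φ.comp_algebraMap, hpc, mul_zero]
  have hx : IsIntegral E (IsLocalization.mk' T a s) :=
    ⟨p.map (algebraMap B E), hp.map _, by
      have h1 := congrArg (algebraMap E T) h0
      rw [map_zero, ← eval₂_at_apply, ← IsLocalization.mk'_spec' T a s, scaleRoots_eval₂_mul] at h1
      exact ((IsLocalization.map_units T s).pow _).mul_right_eq_zero.mp h1⟩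
  obtain ⟨a', ha'⟩ := Groth.Ega4b.mem_range_of_isIntegral_of_isNormalRing hE _ hM T hx
  rw [eq_comm, IsLocalization.mk'_eq_iff_eq_mul, ← map_mul] at ha'
  have h2 : a = a' * algebraMap B E g ^ m := IsLocalization.injective T hM ha'
  refine ⟨a', ?_⟩
  have hreg : ∀ n : ℕ, ∀ d : C, algebraMap B C g ^ n * d = 0 → d = 0 := by
    intro n
    induction n with
    | zero => intro d hd; simpa using hd
    | succ n ih => intro d hd; exact hgC d (ih _ (by rw [← mul_assoc, ← pow_succ]; exact hd))
  rw [← sub_eq_zero]
  refine hreg m _ ?_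
  rw [mul_sub, ← ha, h2, map_mul, map_pow, φ.commutes]
  ring

/-- The root algebra of a unit is normal over a normal domain. -/
theorem isNormalRing_adjoinRoot {B : Type u} [CommRing B] [IsDomain B] [IsIntegrallyClosed B]
    {n : ℕ} (hn0 : n ≠ 0) (hn : IsUnit (n : B)) {f : B} (hf : IsUnit f) :
    EGA4.IsNormalRing (AdjoinRoot (X ^ n - C f)) := by
  have h := (Groth.EtaleAlgebra.Abhy.etale_adjoinRoot_X_pow_sub_C hn0 hn hf.unit).2
  rw [hf.unit_spec] at h
  exact fun q _ => Groth.Pi1Normal.isNormalDomain_localization_etale (R := B) _ q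

end Groth.Calg6.CycCov
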