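import Mathlib.FieldTheory.KummerExtension
import Mathlib.FieldTheory.IsAlgClosed.Basic
import Mathlib.RingTheory.Polynomial.GaussLemma
import Mathlib.RingTheory.AdjoinRoot
import Mathlib.RingTheory.IntegralClosure.IntegrallyClosed
import Mathlib.RingTheory.Norm.Basic

/-!
Reducibility of `X^N − a` over a field with the roots of unity.
-/

universe u

set_option autoImplicit false

open Polynomial

namespace Groth.Calg6.CycCov

theorem exists_pow_eq_of_not_irreducible {K : Type u} [Field K] {N : ℕ} (hN : 0 < N) {ζ : K}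
    (hζ : IsPrimitiveRoot ζ N) {a : K} (ha : a ≠ 0) (h : ¬ Irreducible (X ^ N - C a)) :
    ∃ μ : ℕ, 1 < μ ∧ μ ∣ N ∧ ∃ b : K, a = b ^ μ := by
  have hm : (X ^ N - C a).Monic := monic_X_pow_sub_C a hN.ne'
  have hdeg : (X ^ N - C a).natDegree = N := natDegree_X_pow_sub_C
  have hnu : ¬ IsUnit (X ^ N - C a) := not_isUnit_of_natDegree_pos _ (by omega)
  obtain ⟨q, hq, hqdvd⟩ := WfDvdMonoid.exists_irreducible_factor hnu hm.ne_zero
  have hqlt : q.natDegree < N := by
    refine lt_of_le_of_ne (hdeg ▸ natDegree_le_of_dvd hqdvd hm.ne_zero) fun he => h ?_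
    exact (associated_of_dvd_of_natDegree_le hqdvd hm.ne_zero (by omega)).irreducible hq
  have hd0 : 0 < q.natDegree := hq.natDegree_pos
  set d := q.natDegree with hd
  have : Fact (Irreducible q) := ⟨hq⟩
  let pb := AdjoinRoot.powerBasis hq.ne_zero
  have hfr : Module.finrank K (AdjoinRoot q) = d := by
    rw [pb.finrank, AdjoinRoot.powerBasis_dim]
  have hroot : AdjoinRoot.root q ^ N = algebraMap K _ a := by
    obtain ⟨c, hc⟩ := hqdvd
    have := congrArg (aeval (AdjoinRoot.root q)) hc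
    rw [map_mul, AdjoinRoot.aeval_eq, AdjoinRoot.aeval_eq, AdjoinRoot.mk_self, zero_mul, map_sub, map_pow,
      AdjoinRoot.mk_X, AdjoinRoot.mk_C, sub_eq_zero] at this
    exact this
  set b0 := Algebra.norm K (AdjoinRoot.root q)
  have hb0 : b0 ^ N = a ^ d := by
    rw [← map_pow, hroot, Algebra.norm_algebraMap, hfr]
  set e := Nat.gcd d N with he
  have hepos : 0 < e := Nat.gcd_pos_of_pos_left N hd0
  obtain ⟨μ, hμ⟩ : e ∣ N := Nat.gcd_dvd_right d N
  have hμ1 : 1 < μ := by
    have hle : e ≤ d := Nat.le_of_dvd hd0 (Nat.gcd_dvd_left d N)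
    rcases μ with _ | _ | μ
    · omega
    · omega
    · omega
  refine ⟨μ, hμ1, ⟨e, by rw [hμ, mul_comm]⟩, ?_⟩
  have hb00 : b0 ≠ 0 := fun h0 => by
    rw [h0, zero_pow hN.ne'] at hb0
    exact pow_ne_zero d ha hb0.symm
  -- `a^e` is an `N`-th power
  let c : K := b0 ^ (Nat.gcdA d N) * a ^ (Nat.gcdB d N)
  have hc : c ^ (N : ℤ) = a ^ (e : ℤ) := by
    rw [mul_zpow, ← zpow_mul, ← zpow_mul, mul_comm (Nat.gcdA d N), zpow_mul, zpow_natCast, hb0, ← zpow_natCast,
      ← zpow_mul, ← zpow_add₀ ha, he, Nat.gcd_eq_gcd_ab, mul_comm (Nat.gcdB d N) (N : ℤ)]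
  rw [zpow_natCast, zpow_natCast] at hc
  have hc0 : c ≠ 0 := mul_ne_zero (zpow_ne_zero _ hb00) (zpow_ne_zero _ ha)
  have h1 : (a / c ^ μ) ^ e = 1 := by
    rw [div_pow, ← pow_mul, mul_comm μ e, ← hμ, hc, div_self (pow_ne_zero _ ha)]
  have hprim : IsPrimitiveRoot (ζ ^ μ) e := hζ.pow hN (by rw [hμ, mul_comm])
  have : NeZero e := ⟨hepos.ne'⟩
  obtain ⟨i, -, hi⟩ := hprim.eq_pow_of_pow_eq_one h1
  refine ⟨ζ ^ i * c, ?_⟩
  rw [mul_pow, ← pow_mul, mul_comm i, pow_mul, hi, div_mul_cancel₀ _ (pow_ne_zero _ hc0)]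

/-- `B[T]/(T^N − f)` is a domain iff `T^N − f` is irreducible over the fraction field. -/
theorem isDomain_adjoinRoot_iff {B : Type u} [CommRing B] [IsDomain B] [IsIntegrallyClosed B] {N : ℕ}
    (hN : N ≠ 0) (f : B) :
    IsDomain (AdjoinRoot ((X : B[X]) ^ N - C f)) ↔
      Irreducible ((X : (FractionRing B)[X]) ^ N - C (algebraMap B (FractionRing B) f)) := by
  set K := FractionRing B
  set p := (X : B[X]) ^ N - C f with hp
  have hm : p.Monic := monic_X_pow_sub_C f hN
  have hmap : p.map (algebraMap B K) = (X : K[X]) ^ N - C (algebraMap B K f) := by simp [hp]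
  constructor
  · intro hdom
    rw [← hmap, ← hm.irreducible_iff_irreducible_map_fraction_map]
    refine Prime.irreducible ((Ideal.span_singleton_prime hm.ne_zero).mp ?_)
    exact (Ideal.Quotient.isDomain_iff_prime _).mp hdom
  · intro hirr
    rw [← hmap] at hirr
    have : Fact (Irreducible (p.map (algebraMap B K))) := ⟨hirr⟩
    let φ : AdjoinRoot p →+* AdjoinRoot (p.map (algebraMap B K)) :=
      AdjoinRoot.map (algebraMap B K) p _ dvd_rfl
    refine Function.Injective.isDomain φ ((injective_iff_map_eq_zero φ).mpr fun a ha => ?_)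
    induction a using AdjoinRoot.induction_on with
    | ih r =>
      rw [show φ (AdjoinRoot.mk p r) = AdjoinRoot.mk _ (r.map (algebraMap B K)) by
        simp only [φ, AdjoinRoot.map, AdjoinRoot.lift_mk, ← eval₂_map, ← AdjoinRoot.algebraMap_eq, ← aeval_def,
          AdjoinRoot.aeval_eq], AdjoinRoot.mk_eq_zero] at ha
      rw [AdjoinRoot.mk_eq_zero]
      exact (map_dvd_map _ (IsFractionRing.injective B K) hm).mp ha

end Groth.Calg6.CycCov
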