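import Groth.Prelude.Def_CycCov
import Groth.Agent.PicAux.Tensor
import Groth.Agent.Calg6.CycCov.Alg
import Groth.Agent.Ega4Algebra2.NormalRingSmooth
import Groth.Agent.LocDual.NormalExcellent
import Mathlib.AlgebraicGeometry.Morphisms.Smooth

/-!
Cyclic covers: frames, equations in frames, and the affine charts.
-/

universe u

set_option autoImplicit false

open CategoryTheory AlgebraicGeometry Opposite TopologicalSpace Groth.PicAux

namespace Groth.Calg6.CycCov

variable {X Y : Scheme.{u}}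

theorem isGen_of_gen {L : X.Modules} {U : X.Opens} {e : Γ(L, U)} (h : Gen L U e) :
    _root_.CycCov.IsGen L U e := by
  have := h U le_rfl
  simp only [res_self] at this
  exact this

theorem powSec_eq_lpow (L : X.Modules) (U : X.Opens) (e : Γ(L, U)) (n : ℕ) :
    powSec e n = _root_.CycCov.lpow L U e n := by
  induction n with
  | zero => rfl
  | succ n ih =>
    show tmulSec (powSec e n) e = SecTwist.tmul _ _ U (_root_.CycCov.lpow L U e n) e
    rw [ih]
    rfl

theorem val_res {M : X.Modules} (s : Coh.structureModule X ⟶ M) {U V : X.Opens} (h : V ≤ U) :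
    res M h (show Γ(M, U) from SecTwist.val s U) = SecTwist.val s V :=
  PresheafOfModules.sections_property (M.unitHomEquiv s) (homOfLE h).op

/-- Affine frames with equation exist around every point. -/
theorem exists_frame {L : X.Modules} (hL : PicF.IsInvertible L) (N : ℕ)
    (s : Coh.structureModule X ⟶ CohB1.tensorPow L N) {x : X} {O : X.Opens} (hx : x ∈ O) :
    ∃ (U : X.affineOpens) (e : Γ(L, U.1)) (f : Γ(X, U.1)), x ∈ U.1 ∧ U.1 ≤ O ∧ Gen L U.1 e ∧
      SecTwist.val s U.1 = f • _root_.CycCov.lpow L U.1 e N := by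
  obtain ⟨U₀, e₀, hxU₀, he₀⟩ := (isInvertible_iff_exists_gen L).1 hL x
  obtain ⟨_, ⟨U, hU, rfl⟩, hxU, hUle⟩ :=
    X.isBasis_affineOpens.exists_subset_of_mem_open (show x ∈ (U₀ ⊓ O : X.Opens) from ⟨hxU₀, hx⟩) (U₀ ⊓ O).2
  have hle : U ≤ U₀ := fun z hz => (hUle hz).1
  have he : Gen L U (res L hle e₀) := he₀.res hle
  obtain ⟨f, hf⟩ := (he.pow N).exists_coeff le_rfl (show Γ(CohB1.tensorPow L N, U) from SecTwist.val s U)
  rw [res_self, powSec_eq_lpow] at hf
  exact ⟨⟨U, hU⟩, _, f, hxU, fun z hz => (hUle hz).2, he, hf⟩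

/-- Restricting an equation. -/
theorem equation_res {L : X.Modules} {N : ℕ} {s : Coh.structureModule X ⟶ CohB1.tensorPow L N}
    {U V : X.Opens} (h : V ≤ U) {e : Γ(L, U)} {f : Γ(X, U)}
    (hf : SecTwist.val s U = f • _root_.CycCov.lpow L U e N) :
    SecTwist.val s V = resX X h f • _root_.CycCov.lpow L V (res L h e) N := by
  have hf' : (show Γ(CohB1.tensorPow L N, U) from SecTwist.val s U) = f • powSec e N := by
    rw [powSec_eq_lpow]; exact hf
  have := congrArg (res (CohB1.tensorPow L N) h) hf'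
  rw [res_smul, res_powSec, val_res] at this
  rw [← powSec_eq_lpow]
  exact this

/-- The equation generates the ideal of zeros. -/
theorem ideal_eq_span {L : X.Modules} {N : ℕ} {s : Coh.structureModule X ⟶ CohB1.tensorPow L N}
    {I : X.IdealSheafData} (hs : _root_.CycCov.IsZeroDiv (CohB1.tensorPow L N) s I) (U : X.affineOpens)
    {e : Γ(L, U.1)} (he : Gen L U.1 e) {f : Γ(X, U.1)}
    (hf : SecTwist.val s U.1 = f • _root_.CycCov.lpow L U.1 e N) : I.ideal U = Ideal.span {f} := by
  have hb : Function.Bijective fun b : Γ(X, U.1) => b • _root_.CycCov.lpow L U.1 e N := by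
    have := (he.pow N) U.1 le_rfl
    simp only [res_self, powSec_eq_lpow] at this
    exact this
  have h := hs U
  rw [hf] at h
  refine le_antisymm (fun a ha => ?_) ?_
  · have hm : a • _root_.CycCov.lpow L U.1 e N ∈ I.ideal U • (⊤ : Submodule Γ(X, U.1) _) :=
      Submodule.smul_mem_smul ha Submodule.mem_top
    rw [← h, Submodule.mem_span_singleton] at hm
    obtain ⟨b, hb'⟩ := hm
    rw [smul_smul] at hb'
    rw [Ideal.mem_span_singleton']
    exact ⟨b, hb.1 hb'⟩
  · rw [Ideal.span_le, Set.singleton_subset_iff]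
    have hm : f • _root_.CycCov.lpow L U.1 e N ∈ I.ideal U • (⊤ : Submodule Γ(X, U.1) _) :=
      h ▸ Submodule.mem_span_singleton_self _
    have key : ∀ z ∈ I.ideal U • (⊤ : Submodule Γ(X, U.1) ((CohB1.tensorPow L N).val.obj (op U.1))),
        ∃ c ∈ I.ideal U, z = c • _root_.CycCov.lpow L U.1 e N := fun z hz => by
      refine Submodule.smul_induction_on hz (fun r hr m _ => ?_) fun z₁ z₂ h₁ h₂ => ?_
      · obtain ⟨c, rfl⟩ := hb.2 m
        exact ⟨r * c, Ideal.mul_mem_right _ _ hr, smul_smul r c _⟩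
      · obtain ⟨c₁, hc₁, rfl⟩ := h₁; obtain ⟨c₂, hc₂, rfl⟩ := h₂
        exact ⟨c₁ + c₂, add_mem hc₁ hc₂, (add_smul c₁ c₂ _).symm⟩
    obtain ⟨c, hc, e'⟩ := key _ hm
    rw [hb.1 e']
    exact hc

theorem ideal_divIdeal {r : ℕ} (D : Fin r → X.IdealSheafData) (α : Fin r → ℕ) (U : X.affineOpens) :
    (_root_.CycCov.divIdeal D α).ideal U = ∏ j, (D j).ideal U ^ α j := by
  classical
  unfold _root_.CycCov.divIdeal
  induction (Finset.univ : Finset (Fin r)) using Finset.induction with
  | empty => simp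
  | insert j s hj ih =>
    rw [Finset.prod_insert hj, Finset.prod_insert hj, Scheme.IdealSheafData.ideal_mul, Pi.mul_apply,
      Scheme.IdealSheafData.ideal_pow, Pi.pow_apply, ih]

theorem ideal_eq_top_of_disjoint (I : X.IdealSheafData) (U : X.affineOpens)
    (h : Disjoint (U.1 : Set X) (I.support : Set X)) : I.ideal U = ⊤ := by
  have h1 : X.zeroLocus (U := U.1) (I.ideal U) ∩ (U.1 : Set X) = ∅ := by
    rw [← I.coe_support_inter U]
    exact Set.disjoint_iff_inter_eq_empty.mp h.symm
  rw [← U.2.fromSpec_image_zeroLocus, Set.image_eq_empty] at h1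
  exact PrimeSpectrum.zeroLocus_empty_iff_eq_top.mp h1

/-- Sections of a normal scheme over an affine open form a normal ring. -/
theorem isNormalRing_Γ (hY : Pi1.IsNormalScheme Y) {V : Y.Opens} (hV : IsAffineOpen V) :
    EGA4.IsNormalRing Γ(Y, V) := by
  intro q hq
  let z : V := ⟨hV.fromSpec ⟨q, hq⟩, hV.range_fromSpec.subset ⟨_, rfl⟩⟩
  have hz : hV.primeIdealOf z = ⟨q, hq⟩ :=
    hV.fromSpec.isOpenEmbedding.injective (hV.fromSpec_primeIdealOf z)
  letI := TopCat.Presheaf.algebra_section_stalk Y.presheaf z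
  have := hV.isLocalization_stalk z
  have : IsLocalization.AtPrime (Y.presheaf.stalk z.1) q := by
    simpa only [hz] using this
  let e := (IsLocalization.algEquiv q.primeCompl (Y.presheaf.stalk z.1) (Localization.AtPrime q)).toRingEquiv
  obtain ⟨h1, h2⟩ := hY z.1
  exact ⟨e.toMulEquiv.isDomain_iff.mp h1, .of_equiv e⟩

/-- Sections of an integral smooth scheme over a field on a non-empty affine open: a normal domain. -/
theorem isIntegrallyClosed_Γ_of_smooth {k : Type u} [Field k] (g : X ⟶ Spec (CommRingCat.of k))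
    [Smooth g] [IsIntegral X] {U : X.Opens} (hU : IsAffineOpen U) [Nonempty U] :
    IsIntegrallyClosed Γ(X, U) := by
  have hsm := HasRingHomProperty.appLE (P := @Smooth) g ‹Smooth g›
    ⟨⊤, isAffineOpen_top (Spec (CommRingCat.of k))⟩ ⟨U, hU⟩ (by simp)
  have h0 : (Scheme.ΓSpecIso (CommRingCat.of k)).inv.hom.Smooth :=
    RingHom.Smooth.of_bijective (ConcreteCategory.bijective_of_isIso (Scheme.ΓSpecIso (CommRingCat.of k)).inv)
  have h2 := h0.comp hsm
  algebraize [(g.appLE ⊤ U (by simp)).hom.comp (Scheme.ΓSpecIso (CommRingCat.of k)).inv.hom]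
  have : Algebra.Smooth k Γ(X, U) := h2
  have hn : EGA4.IsNormalRing Γ(X, U) :=
    Groth.Ega4b.isNormalRing_of_smooth k _ (Groth.LocDual.NormalExcellent.isNormalRing_of_domain k)
  exact (isIntegrallyClosed_iff (FractionRing Γ(X, U))).mpr fun {x} hx =>
    Groth.Ega4b.mem_range_of_isIntegral_of_isNormalRing hn _ le_rfl (FractionRing Γ(X, U)) hx

theorem natCast_isUnit {k : Type u} [Field k] (g : X ⟶ Spec (CommRingCat.of k)) {N : ℕ}
    (hNk : (N : k) ≠ 0) (U : X.Opens) : IsUnit (N : Γ(X, U)) := by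
  have := (isUnit_iff_ne_zero.mpr hNk).map
    ((g.appLE ⊤ U (by simp)).hom.comp (Scheme.ΓSpecIso (CommRingCat.of k)).inv.hom)
  rwa [map_natCast] at this

end Groth.Calg6.CycCov
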