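import Groth.Agent.S9408
import Groth.Agent.Ega4Algebra1.RegularLocal
import Groth.Agent.Ega4Algebra1.RegularNormal
import Groth.Agent.Ega4Algebra1.N1Criterion
import Groth.Agent.EtaleAlgebra.Abhyankar
import Groth.Agent.Calg6.CycCov.Alg
import Mathlib.RingTheory.Etale.StandardEtale

/-!
Roots of a regular parameter: regularity of `R[w]/(w^n − π)`.
-/

universe u

set_option autoImplicit false

open Polynomial

namespace Groth.Calg6.CycCov

/-- The quotient of `R[w]/(w^n − π)` by `w` is `R/(π)`. -/
noncomputable def quotRootEquiv {R : Type u} [CommRing R] {n : ℕ} (hn : n ≠ 0) (π : R) :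
    (AdjoinRoot (X ^ n - C π) ⧸ Ideal.span {AdjoinRoot.root (X ^ n - C π)}) ≃+* R ⧸ Ideal.span {π} :=
  RingEquiv.ofRingHom
    (Ideal.Quotient.lift _ (AdjoinRoot.lift (Ideal.Quotient.mk _) 0 (by
        simp [eval₂_sub, zero_pow hn, Ideal.Quotient.eq_zero_iff_mem])) (fun a ha => by
        obtain ⟨b, rfl⟩ := Ideal.mem_span_singleton'.mp ha
        simp))
    (Ideal.Quotient.lift _ ((Ideal.Quotient.mk _).comp (AdjoinRoot.of _)) (fun a ha => by
        obtain ⟨b, rfl⟩ := Ideal.mem_span_singleton'.mp ha
        rw [map_mul, RingHom.comp_apply, RingHom.comp_apply]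
        have h : AdjoinRoot.of (X ^ n - C π) π = AdjoinRoot.root (X ^ n - C π) ^ n := by
          have := AdjoinRoot.eval₂_root (X ^ n - C π)
          rw [eval₂_sub, eval₂_X_pow, eval₂_C, sub_eq_zero] at this
          exact this.symm
        rw [h, map_pow (Ideal.Quotient.mk _),
          Ideal.Quotient.eq_zero_iff_mem.mpr (Ideal.mem_span_singleton_self _), zero_pow hn, mul_zero]))
    (Ideal.Quotient.ringHom_ext (RingHom.ext fun r => by simp))
    (Ideal.Quotient.ringHom_ext (RingHom.ext fun a => by
      induction a using AdjoinRoot.induction_on with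
      | ih p =>
        induction p using Polynomial.induction_on' with
        | add p q hp hq => simp only [map_add, hp, hq]
        | monomial m b =>
          rw [← C_mul_X_pow_eq_monomial]
          simp [Ideal.Quotient.eq_zero_iff_mem.mpr (Ideal.mem_span_singleton_self (AdjoinRoot.root (X ^ n - C π)))]))

/-- `R[w]/(w^n − π)` is regular when `R` and `R/(π)` are and `π` is regular, `n` a unit. -/
theorem isRegularRing_adjoinRoot {R : Type u} [CommRing R] [IsRegularRing R] {n : ℕ} (hn : n ≠ 0)
    (hnu : IsUnit (n : R)) (π : R) (hπ : π ∈ nonZeroDivisors R) [IsRegularRing (R ⧸ Ideal.span {π})] :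
    IsRegularRing (AdjoinRoot (X ^ n - C π)) := by
  rcases subsingleton_or_nontrivial R with h | hnt
  · exact IsRegularRing.of_ringEquiv (RingEquiv.ofBijective (AdjoinRoot.of (X ^ n - C π))
      ⟨fun a b _ => Subsingleton.elim _ _, fun c => ⟨0, by
        have : (1 : AdjoinRoot (X ^ n - C π)) = 0 := by
          rw [← map_one (AdjoinRoot.of _), Subsingleton.elim (1 : R) 0, map_zero]
        have := subsingleton_of_zero_eq_one this.symm
        exact Subsingleton.elim _ _⟩⟩)
  set S := AdjoinRoot (X ^ n - C π)
  have hm : (X ^ n - C π : R[X]).Monic := monic_X_pow_sub_C π hn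
  have := hm.free_adjoinRoot
  have := hm.finite_adjoinRoot
  have : IsNoetherianRing S := IsNoetherianRing.of_finite R S
  set w := AdjoinRoot.root (X ^ n - C π)
  have hwn : w ^ n = AdjoinRoot.of _ π := by
    have := AdjoinRoot.eval₂_root (X ^ n - C π)
    rw [eval₂_sub, eval₂_X_pow, eval₂_C, sub_eq_zero] at this
    exact this
  have hw : w ∈ nonZeroDivisors S := by
    refine mem_nonZeroDivisors_iff_right.mpr fun x hx => ?_
    have h0 : π • x = 0 := by
      rw [Algebra.smul_def, AdjoinRoot.algebraMap_eq, ← hwn, mul_comm, ← mul_pow_sub_one hn w,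
        ← mul_assoc, hx, zero_mul]
    let b := Module.Free.chooseBasis R S
    refine b.repr.injective (Finsupp.ext fun i => ?_)
    have := congrArg (fun y => b.repr y i) h0
    simp only [map_smul, Finsupp.smul_apply, smul_eq_mul, map_zero, Finsupp.zero_apply] at this
    rw [map_zero, Finsupp.zero_apply]
    exact (mul_left_mem_nonZeroDivisors_eq_zero_iff hπ).mp this
  have : IsRegularRing (S ⧸ Ideal.span {w}) := IsRegularRing.of_ringEquiv (quotRootEquiv hn π).symm
  refine isRegularRing_iff.mpr fun q _ => ?_
  by_cases hwq : w ∈ q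
  · let A := Localization.AtPrime q
    let x := algebraMap S A w
    have hx : x ∈ IsLocalRing.maximalIdeal A := (IsLocalization.AtPrime.to_map_mem_maximal_iff A q w).mpr hwq
    have hreg : x ∈ nonZeroDivisors A :=
      IsLocalization.nonZeroDivisors_le_comap q.primeCompl A hw
    let I : Ideal S := Ideal.span {w}
    have hle : I ≤ q := (Ideal.span_singleton_le_iff_mem _).mpr hwq
    let q' := q.map (Ideal.Quotient.mk I)
    have : q'.IsPrime := Ideal.map_isPrime_of_surjective Ideal.Quotient.mk_surjective (by simpa using hle)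
    have hmap : I.map (algebraMap S A) = Ideal.span {x} := by rw [Ideal.map_span, Set.image_singleton]
    have : IsLocalization.AtPrime (A ⧸ I.map (algebraMap S A)) q' := by
      have h1 : q.primeCompl.map (Ideal.Quotient.mk I) = q'.primeCompl := by
        ext z
        obtain ⟨z, rfl⟩ := Ideal.Quotient.mk_surjective z
        have hmem : ∀ y, Ideal.Quotient.mk I y ∈ q' ↔ y ∈ q := fun y => by
          rw [← Ideal.mem_comap, Ideal.comap_map_of_surjective _ Ideal.Quotient.mk_surjective,
            ← RingHom.ker_eq_comap_bot, Ideal.mk_ker, sup_eq_left.mpr hle]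
        constructor
        · rintro ⟨y, hy, hyz⟩ h
          rw [SetLike.mem_coe, ← hyz] at h
          exact hy ((hmem y).mp h)
        · exact fun h => ⟨z, fun hz => h ((hmem z).mpr hz), rfl⟩
      have h2 : IsLocalization (Algebra.algebraMapSubmonoid (S ⧸ I) q.primeCompl) (A ⧸ I.map (algebraMap S A)) :=
        inferInstance
      rwa [show Algebra.algebraMapSubmonoid (S ⧸ I) q.primeCompl = q'.primeCompl from h1] at h2
    have : IsLocalRing (A ⧸ I.map (algebraMap S A)) := IsLocalization.AtPrime.isLocalRing _ q'
    have : IsRegularLocalRing (A ⧸ I.map (algebraMap S A)) :=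
      IsRegularLocalRing.of_ringEquiv (IsLocalization.algEquiv q'.primeCompl
        (Localization.AtPrime q') (A ⧸ I.map (algebraMap S A))).toRingEquiv
    have : IsRegularLocalRing (A ⧸ Ideal.span {x}) :=
      IsRegularLocalRing.of_ringEquiv (Ideal.quotEquivOfEq hmap)
    have : IsLocalRing (A ⧸ Ideal.span {x}) := inferInstance
    exact Groth.Ega4Algebra1.isRegularLocalRing_of_quotient_span_singleton hx hreg
  · obtain ⟨u, hu⟩ := hnu
    let P : StandardEtalePair R :=
      { f := X ^ n - C π, monic_f := hm, g := X,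
        cond := ⟨C (↑u⁻¹ : R) * X, 0, n, by
          rw [derivative_sub, derivative_C, sub_zero, derivative_X_pow, mul_zero, add_zero, mul_mul_mul_comm,
            ← C_mul, ← hu, Units.mul_inv, C_1, one_mul, ← pow_succ, Nat.sub_add_cancel (Nat.one_le_iff_ne_zero.mpr hn)]⟩ }
    have he : Algebra.Etale R (Localization.Away (AdjoinRoot.mk (X ^ n - C π) X)) :=
      Algebra.Etale.of_equiv P.equivAwayAdjoinRoot
    have : IsRegularRing (Localization.Away (AdjoinRoot.mk (X ^ n - C π) X)) :=
      Groth.Agent.S9408.isRegularRing_of_smooth R _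
    rw [AdjoinRoot.mk_X] at this
    obtain ⟨Q, hQ⟩ : (⟨q, ‹_›⟩ : PrimeSpectrum S) ∈
        Set.range (PrimeSpectrum.comap (algebraMap S (Localization.Away w))) := by
      rw [PrimeSpectrum.localization_away_comap_range (Localization.Away w) w]
      exact hwq
    have h := (Groth.Ega4Algebra1.mem_regLocus_localization_iff _ Q).mp
      (inferInstanceAs (IsRegularLocalRing (Localization.AtPrime Q.asIdeal)))
    rw [hQ] at h
    exact h

/-- A regular ring is normal. -/
theorem isNormalRing_of_isRegularRing (R : Type u) [CommRing R] [IsRegularRing R] : EGA4.IsNormalRing R :=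
  fun p _ => ⟨Groth.Ega4Algebra1.isDomain_of_isRegularLocalRing _,
    Groth.Ega4Algebra1.isIntegrallyClosed_of_isRegularLocalRing _⟩

end Groth.Calg6.CycCov
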