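import Groth.Prelude.Def_LogNCD
import Groth.Agent.Calg6.CycCov.Frames
import Groth.Agent.Calg6.CycCov.Kummer
import Mathlib.RingTheory.RegularLocalRing.Polynomial
import Mathlib.RingTheory.TensorProduct.Quotient
import Mathlib.RingTheory.Polynomial.Quotient

/-!
Local equations of a normal crossing divisor: the regular parameters.
-/

universe u

set_option autoImplicit false

open CategoryTheory AlgebraicGeometry Opposite TopologicalSpace Groth.PicAux

namespace Groth.Calg6.CycCov

/-- The quotient of a polynomial ring over a field by a variable is regular. -/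
theorem isRegularRing_mvPolynomial_quot {k : Type u} [Field k] {σ : Type u} [Finite σ] (i : σ) :
    IsRegularRing (MvPolynomial σ k ⧸ Ideal.span {(MvPolynomial.X i : MvPolynomial σ k)}) := by
  classical
  let e : MvPolynomial σ k ≃+* Polynomial (MvPolynomial {j // j ≠ i} k) :=
    ((MvPolynomial.renameEquiv k (Equiv.optionSubtypeNe i).symm).trans
      (MvPolynomial.optionEquivLeft k _)).toRingEquiv
  have he : e (MvPolynomial.X i) = Polynomial.X - Polynomial.C 0 := by
    show MvPolynomial.optionEquivLeft k _ (MvPolynomial.rename _ (MvPolynomial.X i)) = _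
    rw [MvPolynomial.rename_X, Equiv.optionSubtypeNe_symm_self, MvPolynomial.optionEquivLeft_X_none, map_zero, sub_zero]
  refine IsRegularRing.of_ringEquiv (R := MvPolynomial {j // j ≠ i} k)
    (((Ideal.quotientEquiv _ (Ideal.span {Polynomial.X - Polynomial.C 0}) e ?_).trans
      (Polynomial.quotientSpanXSubCAlgEquiv (0 : MvPolynomial {j // j ≠ i} k)).toRingEquiv).symm)
  rw [Ideal.map_span, Set.image_singleton, ← he]
  rfl

/-- Quotients of étale algebras over regular quotients. -/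
theorem isRegularRing_quot_of_etale {P B : Type u} [CommRing P] [CommRing B] [Algebra P B] [Algebra.Etale P B]
    (I : Ideal P) [IsRegularRing (P ⧸ I)] : IsRegularRing (B ⧸ I.map (algebraMap P B)) := by
  letI : Algebra (P ⧸ I) (TensorProduct P (P ⧸ I) B) := Algebra.TensorProduct.leftAlgebra
  have : IsRegularRing (TensorProduct P (P ⧸ I) B) :=
    Groth.Agent.S9408.isRegularRing_of_smooth (P ⧸ I) _
  exact IsRegularRing.of_ringEquiv
    ((Algebra.TensorProduct.comm P (P ⧸ I) B).toRingEquiv.trans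
      (Algebra.TensorProduct.quotIdealMapEquivTensorQuot B I).symm.toRingEquiv)

variable {X : Scheme.{u}} {k : Type u} [Field k] (f : X ⟶ Spec (CommRingCat.of k))

/-- A coordinate of an étale chart: regular quotient. -/
theorem isRegularRing_quot_coord [IsIntegral X] {n : Type u} [Finite n] (W : X.Opens) (v : n → Γ(W, ⊤))
    [Etale (AffineSpace.homOfVector (W.ι ≫ f) v)] (U : X.affineOpens) [Nonempty U.1] (h : U.1 ≤ W) (i : n) :
    LogNCD.sectOn W h (v i) ≠ 0 ∧ IsRegularRing (Γ(X, U.1) ⧸ Ideal.span {LogNCD.sectOn W h (v i)}) := by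
  have : IsAffine U.1.toScheme := U.2
  let P := MvPolynomial n k
  let h' : U.1.toScheme ⟶ Spec (CommRingCat.of P) :=
    X.homOfLE h ≫ AffineSpace.homOfVector (W.ι ≫ f) v ≫ (AffineSpace.SpecIso n (CommRingCat.of k)).hom
  have hh' : Etale h' := inferInstance
  rw [HasRingHomProperty.iff_of_isAffine (P := @Etale)] at hh'
  let φ : P →+* Γ(X, U.1) := ((Scheme.ΓSpecIso (CommRingCat.of P)).inv ≫ h'.appTop ≫ U.1.topIso.hom).hom
  have hφ : φ.Etale := by
    have h1 : (Scheme.ΓSpecIso (CommRingCat.of P)).inv.hom.Etale :=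
      RingHom.Etale.of_bijective (ConcreteCategory.bijective_of_isIso _)
    have h3 : U.1.topIso.hom.hom.Etale := RingHom.Etale.of_bijective (ConcreteCategory.bijective_of_isIso _)
    exact RingHom.Etale.stableUnderComposition _ _ h1 (RingHom.Etale.stableUnderComposition _ _ hh' h3)
  have hφX : φ (MvPolynomial.X i) = LogNCD.sectOn W h (v i) := by
    have h1 : (AffineSpace.SpecIso n (CommRingCat.of k)).hom.appTop
        ((Scheme.ΓSpecIso (CommRingCat.of P)).inv (MvPolynomial.X i)) = AffineSpace.coord _ i := by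
      rw [← AffineSpace.SpecIso_inv_appTop_coord (n := n) (CommRingCat.of k) i, ← CommRingCat.comp_apply,
        ← Scheme.Hom.comp_appTop, Iso.hom_inv_id, Scheme.Hom.id_appTop]
      rfl
    show U.1.topIso.hom (h'.appTop ((Scheme.ΓSpecIso (CommRingCat.of P)).inv (MvPolynomial.X i))) = _
    simp only [h', Scheme.Hom.comp_appTop, CommRingCat.comp_apply]
    rw [h1, AffineSpace.homOfVector_appTop_coord, Scheme.homOfLE_appTop, LogNCD.sectOn]
    simp only [Scheme.Opens.topIso_hom, ← CommRingCat.comp_apply]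
    erw [← Functor.map_comp, ← Functor.map_comp]
    rfl
  algebraize [φ]
  constructor
  · intro h0
    have := IsSMulRegular.of_flat (S := Γ(X, U.1)) (x := (MvPolynomial.X i : P))
      (isRegular_of_ne_zero (MvPolynomial.X_ne_zero i)).left
    rw [RingHom.algebraMap_toAlgebra, hφX, h0] at this
    exact one_ne_zero (this (by simp : (0 : Γ(X, U.1)) • (1 : Γ(X, U.1)) = (0 : Γ(X, U.1)) • 0))
  · have := isRegularRing_mvPolynomial_quot (k := k) i
    have h2 := isRegularRing_quot_of_etale (B := Γ(X, U.1)) (Ideal.span {(MvPolynomial.X i : P)})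
    rwa [Ideal.map_span, Set.image_singleton, RingHom.algebraMap_toAlgebra, hφX] at h2

/-- Sections of a smooth scheme over a field form a regular ring. -/
theorem isRegularRing_Γ [Smooth f] {U : X.Opens} (hU : IsAffineOpen U) : IsRegularRing Γ(X, U) := by
  have hsm := HasRingHomProperty.appLE (P := @Smooth) f ‹Smooth f›
    ⟨⊤, isAffineOpen_top (Spec (CommRingCat.of k))⟩ ⟨U, hU⟩ (by simp)
  have h0 : (Scheme.ΓSpecIso (CommRingCat.of k)).inv.hom.Smooth :=
    RingHom.Smooth.of_bijective (ConcreteCategory.bijective_of_isIso (Scheme.ΓSpecIso (CommRingCat.of k)).inv)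
  have h2 := h0.comp hsm
  algebraize [(f.appLE ⊤ U (fun z _ => trivial : U ≤ f ⁻¹ᵁ ⊤)).hom.comp (Scheme.ΓSpecIso (CommRingCat.of k)).inv.hom]
  exact Groth.Agent.S9408.isRegularRing_of_smooth k _

/-- Local equations near a point through which at most one relevant component passes. -/
theorem exists_local_equation [Smooth f] [IsIntegral X] {L : X.Modules} (hL : PicF.IsInvertible L) {N : ℕ}
    (s : Coh.structureModule X ⟶ CohB1.tensorPow L N) {r : ℕ} (D : Fin r → X.IdealSheafData) (α : Fin r → ℕ)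
    (hD : LogNCD.IsNCD D f) (hs : _root_.CycCov.IsZeroDiv (CohB1.tensorPow L N) s (_root_.CycCov.divIdeal D α))
    (S : Set (Fin r)) (hS : ∀ j, 0 < α j → j ∈ S) {x : X} {O : X.Opens} (hx : x ∈ O)
    (hone : ∀ j ∈ S, ∀ j' ∈ S, x ∈ (D j).support → x ∈ (D j').support → j = j') :
    ∃ (U : X.affineOpens) (e : Γ(L, U.1)) (g : Γ(X, U.1)) (u : Γ(X, U.1)) (a : ℕ),
      x ∈ U.1 ∧ U.1 ≤ O ∧ Gen L U.1 e ∧
      SecTwist.val s U.1 = (g ^ a * u) • _root_.CycCov.lpow L U.1 e N ∧
      IsUnit u ∧ g ≠ 0 ∧ IsRegularRing Γ(X, U.1) ∧ IsRegularRing (Γ(X, U.1) ⧸ Ideal.span {g}) ∧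
      (∀ j ∈ S, x ∈ (D j).support → (D j).ideal U = Ideal.span {g} ∧ α j = a) ∧
      (∀ j ∈ S, x ∉ (D j).support → (D j).ideal U = ⊤) ∧
      ((∀ j ∈ S, x ∉ (D j).support) → g = 1 ∧ a = 0) := by
  classical
  let bad : Finset (Fin r) := Finset.univ.filter fun j => j ∈ S ∧ x ∉ (D j).support
  have hopen : IsOpen ((O : Set X) \ ⋃ j ∈ bad, ((D j).support : Set X)) :=
    O.2.sdiff (bad.finite_toSet.isClosed_biUnion fun j _ => (D j).support.isClosed)
  let O' : X.Opens := ⟨_, hopen⟩
  have hxO' : x ∈ O' := ⟨hx, by simp [bad]⟩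
  have hbad : ∀ j ∈ S, x ∉ (D j).support → ∀ U : X.affineOpens, U.1 ≤ O' → (D j).ideal U = ⊤ :=
    fun j hj hxj U hU => ideal_eq_top_of_disjoint _ U <| Set.disjoint_left.mpr fun z hz hzj =>
      (hU hz).2 (Set.mem_biUnion (show j ∈ (bad : Set (Fin r)) by simp [bad, hj, hxj]) hzj)
  by_cases hex : ∃ j ∈ S, x ∈ (D j).support
  · obtain ⟨j₀, hj₀S, hj₀⟩ := hex
    obtain ⟨W, hxW, n, v, em, -, het, hgen, -⟩ := hD x ⟨⟨j₀, hj₀⟩⟩
    obtain ⟨U, e, g0, hxU, hUle, he, hg0⟩ := exists_frame hL N s (show x ∈ (O' ⊓ W : X.Opens) from ⟨hxO', hxW⟩)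
    have hUO' : U.1 ≤ O' := hUle.trans inf_le_left
    have hUW : U.1 ≤ W := hUle.trans inf_le_right
    have : Nonempty U.1 := ⟨⟨x, hxU⟩⟩
    obtain ⟨hne, hreg⟩ := isRegularRing_quot_coord f W v U hUW (ULift.up (em ⟨j₀, hj₀⟩))
    set g := LogNCD.sectOn W hUW (v (ULift.up (em ⟨j₀, hj₀⟩)))
    have hgj : (D j₀).ideal U = Ideal.span {g} := hgen ⟨j₀, hj₀⟩ U hUW
    have hf : Ideal.span {g0} = Ideal.span {g ^ α j₀} := by
      rw [← ideal_eq_span hs U he hg0, ideal_divIdeal, Finset.prod_eq_single j₀, hgj, Ideal.span_singleton_pow]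
      · intro j _ hj
        rcases Nat.eq_zero_or_pos (α j) with h | h
        · rw [h, pow_zero]
        · rw [hbad j (hS j h) (fun hxj => hj (hone j (hS j h) j₀ hj₀S hxj hj₀)) U hUO', ← Ideal.one_eq_top, one_pow]
      · intro h; exact absurd (Finset.mem_univ _) h
    obtain ⟨uu, huu⟩ := (Ideal.span_singleton_eq_span_singleton.mp hf).symm
    refine ⟨U, e, g, uu, α j₀, hxU, fun z hz => (hUO' hz).1, he, by rw [huu]; exact hg0, uu.isUnit, hne,
      isRegularRing_Γ f U.2, hreg, fun j hj hxj => ?_, fun j hj hxj => hbad j hj hxj U hUO', fun h => absurd hj₀ (h j₀ hj₀S)⟩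
    obtain rfl := hone j hj j₀ hj₀S hxj hj₀
    exact ⟨hgj, rfl⟩
  · push Not at hex
    obtain ⟨U, e, g0, hxU, hUle, he, hg0⟩ := exists_frame hL N s hxO'
    have : Nonempty U.1 := ⟨⟨x, hxU⟩⟩
    have hu : IsUnit g0 := by
      rw [← Ideal.span_singleton_eq_top, ← ideal_eq_span hs U he hg0, ideal_divIdeal, ← Ideal.one_eq_top]
      refine Finset.prod_eq_one fun j _ => ?_
      rcases Nat.eq_zero_or_pos (α j) with h | h
      · rw [h, pow_zero]
      · rw [hbad j (hS j h) (hex j (hS j h)) U hUle, ← Ideal.one_eq_top, one_pow]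
    have hB := isRegularRing_Γ f U.2
    refine ⟨U, e, 1, g0, 0, hxU, fun z hz => (hUle hz).1, he, by rw [pow_zero, one_mul]; exact hg0, hu, one_ne_zero,
      hB, ?_, fun j hj hxj => absurd hxj (hex j hj), fun j hj hxj => hbad j hj hxj U hUle, fun _ => ⟨rfl, rfl⟩⟩
    have : Subsingleton (Γ(X, U.1) ⧸ Ideal.span {(1 : Γ(X, U.1))}) := by
      rw [Ideal.Quotient.subsingleton_iff, Ideal.span_singleton_one]
    exact isRegularRing_iff.mpr fun p hp => absurd (Subsingleton.elim p ⊤) hp.ne_top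

end Groth.Calg6.CycCov
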