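import Groth.Agent.Calg6.CycCov.Frames
import Mathlib.AlgebraicGeometry.Morphisms.Etale

/-!
The normalised cyclic cover over an affine open where the section is invertible.
-/

universe u

set_option autoImplicit false

open CategoryTheory AlgebraicGeometry Opposite TopologicalSpace Groth.PicAux Polynomial

namespace Groth.Calg6.CycCov

variable {X Y : Scheme.{u}} {L : X.Modules} {N : ℕ} {s : Coh.structureModule X ⟶ CohB1.tensorPow L N}
  {π : Y ⟶ X} (R : _root_.CycCov.Root L N s π)

/-- Restriction of the simple algebras. -/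
noncomputable def rootRes {U V : X.Opens} (h : V ≤ U) (N : ℕ) (f : Γ(X, U)) :
    AdjoinRoot ((Polynomial.X : Γ(X, U)[X]) ^ N - C f) →+*
      AdjoinRoot ((Polynomial.X : Γ(X, V)[X]) ^ N - C (resX X h f)) :=
  AdjoinRoot.map (resX X h) _ _ (by simp)

theorem rootRes_injective {U V : X.Opens} (h : V ≤ U) (hN : N ≠ 0) (f : Γ(X, U))
    (hinj : Function.Injective (resX X h)) : Function.Injective (rootRes h N f) := by
  rw [injective_iff_map_eq_zero]
  intro a ha
  induction a using AdjoinRoot.induction_on with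
  | ih p =>
    rw [rootRes, AdjoinRoot.map, AdjoinRoot.lift_mk, ← eval₂_map, ← AdjoinRoot.algebraMap_eq, ← aeval_def,
      AdjoinRoot.aeval_eq, AdjoinRoot.mk_eq_zero] at ha
    rw [AdjoinRoot.mk_eq_zero]
    have : ((Polynomial.X : Γ(X, U)[X]) ^ N - C f).map (resX X h) ∣ p.map (resX X h) := by simpa using ha
    exact (map_dvd_map (resX X h) hinj (monic_X_pow_sub_C f hN)).mp this

/-- Restriction of functions on `Y`. -/
noncomputable abbrev resY {U V : X.Opens} (h : V ≤ U) : Γ(Y, π ⁻¹ᵁ U) →+* Γ(Y, π ⁻¹ᵁ V) :=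
  resX Y (π.preimage_mono h)

theorem resY_app {U V : X.Opens} (h : V ≤ U) (b : Γ(X, U)) :
    resY (π := π) h ((π.app U).hom b) = (π.app V).hom (resX X h b) :=
  (congr($(π.naturality (homOfLE h).op) b)).symm

variable (U : X.affineOpens) {e : Γ(L, U.1)} (he : Gen L U.1 e) {f : Γ(X, U.1)}
  (hf : SecTwist.val s U.1 = f • _root_.CycCov.lpow L U.1 e N)

/-- The chart. -/
noncomputable abbrev chartU : AdjoinRoot ((Polynomial.X : Γ(X, U.1)[X]) ^ N - C f) →+* Γ(Y, π ⁻¹ᵁ U.1) :=
  _root_.CycCov.chart R U e (isGen_of_gen he) f hf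

theorem chartU_of (b : Γ(X, U.1)) : chartU R U he hf (AdjoinRoot.of _ b) = (π.app U.1).hom b :=
  AdjoinRoot.lift_of _

theorem chartU_root : chartU R U he hf (AdjoinRoot.root _) = R.t U e (isGen_of_gen he) :=
  AdjoinRoot.lift_root _

theorem resY_chart (V : X.affineOpens) (h : V.1 ≤ U.1) (a) :
    resY h (chartU R U he hf a) =
      chartU R V (he.res h) (equation_res h hf) (rootRes h N f a) := by
  induction a using AdjoinRoot.induction_on with
  | ih p =>
    induction p using Polynomial.induction_on' with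
    | add p q hp hq => simp only [map_add, hp, hq]
    | monomial n b =>
      rw [← C_mul_X_pow_eq_monomial]
      simp only [map_mul, map_pow, AdjoinRoot.mk_C, AdjoinRoot.mk_X, chartU_of, chartU_root, resY_app, rootRes,
        AdjoinRoot.map_of, AdjoinRoot.map_root]
      rw [show resY h (R.t U e (isGen_of_gen he)) = R.t V (res L h e) (isGen_of_gen (he.res h)) from
        R.t_res U V h e (isGen_of_gen he) (isGen_of_gen (he.res h))]

include R in
/-- No torsion on the sections of the cover. -/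
theorem eq_zero_of_app_mul [IsIntegral X] (hN : N ≠ 0) (hR : _root_.CycCov.IsCover R)
    (hL : PicF.IsInvertible L) {g : Γ(X, U.1)} (hg : g ≠ 0) {c : Γ(Y, π ⁻¹ᵁ U.1)}
    (hc : (π.app U.1).hom g * c = 0) : c = 0 := by
  obtain ⟨hfin, hnorm, W, -, hdense, hchart⟩ := hR
  have : ∀ y : Y, _root_.IsReduced (Y.presheaf.stalk y) := fun y => by have := (hnorm y).1; infer_instance
  have : IsReduced Y := isReduced_of_isReduced_stalk Y
  rw [← basicOpen_eq_bot_iff]
  by_contra hne
  obtain ⟨z, hz, hzW⟩ := hdense.inter_open_nonempty _ (Y.basicOpen c).2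
    (Set.nonempty_iff_ne_empty.mpr fun h => hne (SetLike.coe_injective h))
  have hzU : π z ∈ U.1 := Y.basicOpen_le c hz
  obtain ⟨V, e', f', hzV, hVle, he', hf'⟩ :=
    exists_frame hL N s (show π z ∈ (U.1 ⊓ W : X.Opens) from ⟨hzU, hzW⟩)
  have hVU : V.1 ≤ U.1 := hVle.trans inf_le_left
  have hb := hchart V (hVle.trans inf_le_right) e' (isGen_of_gen he') f' hf'
  have : Nonempty V.1 := ⟨⟨_, hzV⟩⟩
  have h0 : resY hVU c = 0 := by
    obtain ⟨a, ha⟩ := hb.2 (resY hVU c)
    have h1 : chartU R V he' hf' (AdjoinRoot.of _ (resX X hVU g) * a) = 0 := by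
      rw [map_mul, chartU_of, ← resY_app, show chartU R V he' hf' a = resY hVU c from ha, ← map_mul, hc, map_zero]
    have h2 : AdjoinRoot.of _ (resX X hVU g) * a = 0 := hb.1 (h1.trans (map_zero _).symm)
    have hm := monic_X_pow_sub_C f' hN
    have := hm.free_adjoinRoot
    rw [← AdjoinRoot.algebraMap_eq, ← Algebra.smul_def] at h2
    have hgV : resX X hVU g ≠ 0 := fun h => hg
      (map_injective_of_isIntegral X (homOfLE hVU) (h.trans (map_zero _).symm))
    rw [← show chartU R V he' hf' a = resY hVU c from ha, (smul_eq_zero.mp h2).resolve_left hgV, map_zero]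
  have : z ∈ Y.basicOpen (resY hVU c) := by
    rw [resY, resX, Scheme.basicOpen_res]
    exact ⟨hzV, hz⟩
  rw [h0, Scheme.basicOpen_zero] at this
  exact this

include R in
theorem resY_injective [IsIntegral X] (hN : N ≠ 0) (hR : _root_.CycCov.IsCover R)
    (hL : PicF.IsInvertible L) {g : Γ(X, U.1)} (hg : g ≠ 0) :
    Function.Injective (resY (π := π) (X.basicOpen_le g)) := by
  have : IsFinite π := hR.1
  have hV : IsAffineOpen (π ⁻¹ᵁ U.1) := U.2.preimage π
  rw [injective_iff_map_eq_zero]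
  intro c hc
  have hle : π ⁻¹ᵁ X.basicOpen g = Y.basicOpen ((π.app U.1).hom g) := Scheme.preimage_basicOpen π g
  letI := (resY (π := π) (X.basicOpen_le g)).toAlgebra
  have : IsLocalization.Away ((π.app U.1).hom g) Γ(Y, π ⁻¹ᵁ X.basicOpen g) :=
    hV.isLocalization_of_eq_basicOpen _ (homOfLE (π.preimage_mono (X.basicOpen_le g))) hle
  obtain ⟨⟨_, n, rfl⟩, hm⟩ := (IsLocalization.map_eq_zero_iff (Submonoid.powers ((π.app U.1).hom g))
    Γ(Y, π ⁻¹ᵁ X.basicOpen g) c).1 hc
  simp only [← map_pow] at hm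
  have : Nonempty U.1 := by
    by_contra h
    have hemp : IsEmpty U.1 := not_nonempty_iff.mp h
    have hbot : U.1 = ⊥ := by ext x; exact ⟨fun hx => (hemp.false ⟨x, hx⟩).elim, fun hx => hx.elim⟩
    have : Subsingleton Γ(X, U.1) := by
      rw [hbot]; exact CommRingCat.subsingleton_of_isTerminal X.sheaf.isTerminalOfEmpty
    exact hg (Subsingleton.elim _ _)
  exact eq_zero_of_app_mul R U hN hR hL (pow_ne_zero n hg) hm

/-- Polynomials over a localisation have multiples coming from the ring. -/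
theorem exists_pow_mul_poly {B B' : Type u} [CommRing B] [CommRing B'] [Algebra B B'] (g : B)
    [IsLocalization.Away g B'] (P : B'[X]) :
    ∃ (m : ℕ) (Q : B[X]), Q.map (algebraMap B B') = C (algebraMap B B' g ^ m) * P := by
  induction P using Polynomial.induction_on' with
  | add p q hp hq =>
    obtain ⟨m, Q, hQ⟩ := hp
    obtain ⟨m', Q', hQ'⟩ := hq
    refine ⟨m + m', C (g ^ m') * Q + C (g ^ m) * Q', ?_⟩
    rw [Polynomial.map_add, Polynomial.map_mul, Polynomial.map_mul, hQ, hQ', map_C, map_C, map_pow, map_pow]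
    simp only [pow_add, map_mul, map_pow]
    ring
  | monomial n a =>
    obtain ⟨m, b, hb⟩ := IsLocalization.Away.surj g a
    exact ⟨m, monomial n b, by rw [map_monomial, C_mul_monomial, ← hb, mul_comm]⟩

/-- The core: over an affine open where the equation is a unit the cover is simple. -/
theorem chart_bijective_of_isUnit {k : Type u} [Field k] (p : X ⟶ Spec (CommRingCat.of k)) [Smooth p]
    [IsIntegral X] (hN : N ≠ 0) (hNk : (N : k) ≠ 0) (hL : PicF.IsInvertible L)
    (hR : _root_.CycCov.IsCover R) (hfu : IsUnit f) : Function.Bijective (chartU R U he hf) := by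
  obtain ⟨hfin, hnorm, W, hW, -, hchart⟩ := id hR
  have hV : IsAffineOpen (π ⁻¹ᵁ U.1) := U.2.preimage π
  rcases isEmpty_or_nonempty U.1 with hemp | hne
  · have hbot : U.1 = ⊥ := by ext x; exact ⟨fun hx => (hemp.false ⟨x, hx⟩).elim, fun hx => hx.elim⟩
    have : Subsingleton Γ(X, U.1) := by
      rw [hbot]; exact CommRingCat.subsingleton_of_isTerminal X.sheaf.isTerminalOfEmpty
    have h1 : (1 : Γ(Y, π ⁻¹ᵁ U.1)) = 0 := by
      rw [← map_one (π.app U.1).hom, Subsingleton.elim (1 : Γ(X, U.1)) 0, map_zero]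
    have : Subsingleton Γ(Y, π ⁻¹ᵁ U.1) := subsingleton_of_zero_eq_one h1.symm
    have hA : (1 : AdjoinRoot ((Polynomial.X : Γ(X, U.1)[X]) ^ N - C f)) = 0 := by
      rw [← map_one (AdjoinRoot.of _), Subsingleton.elim (1 : Γ(X, U.1)) 0, map_zero]
    have := subsingleton_of_zero_eq_one hA.symm
    exact ⟨fun a b _ => Subsingleton.elim a b, fun c => ⟨0, Subsingleton.elim _ _⟩⟩
  obtain ⟨x, hxU, hxW⟩ := hW.inter_open_nonempty _ U.1.2 (by obtain ⟨x⟩ := hne; exact ⟨x.1, x.2⟩)
  obtain ⟨g, hgle, hxg⟩ := U.2.exists_basicOpen_le (V := W) ⟨x, hxW⟩ hxU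
  have hg : g ≠ 0 := fun h => by rw [h, Scheme.basicOpen_zero] at hxg; exact hxg
  let V : X.affineOpens := ⟨X.basicOpen g, U.2.basicOpen g⟩
  have hle : V.1 ≤ U.1 := X.basicOpen_le g
  have : Nonempty V.1 := ⟨⟨x, hxg⟩⟩
  have hb := hchart V hgle _ (isGen_of_gen (he.res hle)) _ (equation_res hle hf)
  have hinj : Function.Injective (chartU R U he hf) := by
    rw [injective_iff_map_eq_zero]
    intro a ha
    have h1 := resY_chart R U he hf V hle a
    rw [ha, map_zero] at h1
    exact (rootRes_injective hle hN f (map_injective_of_isIntegral X (homOfLE hle))).eq_iff.mp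
      ((hb.1 (h1.symm.trans (map_zero _).symm)).trans (map_zero _).symm)
  refine ⟨hinj, ?_⟩
  have := isIntegrallyClosed_Γ_of_smooth p U.2
  letI := (π.app U.1).hom.toAlgebra
  let φ : AdjoinRoot ((Polynomial.X : Γ(X, U.1)[X]) ^ N - C f) →ₐ[Γ(X, U.1)] Γ(Y, π ⁻¹ᵁ U.1) :=
    { chartU R U he hf with commutes' := fun b => chartU_of R U he hf b }
  have : Module.Finite Γ(X, U.1) Γ(Y, π ⁻¹ᵁ U.1) := IsFinite.finite_app π U.1 U.2
  refine surjective_of_normal φ hinj (isNormalRing_adjoinRoot hN (natCast_isUnit p hNk U.1) hfu)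
    (fun c => Algebra.IsIntegral.isIntegral c) g (fun c hc => eq_zero_of_app_mul R U hN hR hL hg hc) fun c => ?_
  obtain ⟨y, hy⟩ := hb.2 (resY hle c)
  induction y using AdjoinRoot.induction_on with
  | ih P =>
    letI : Algebra Γ(X, U.1) Γ(X, V.1) := (resX X hle).toAlgebra
    have : IsLocalization.Away g Γ(X, V.1) := U.2.isLocalization_of_eq_basicOpen g (homOfLE hle) rfl
    obtain ⟨m, Q, hQ⟩ := exists_pow_mul_poly g P
    refine ⟨m, AdjoinRoot.mk _ Q, resY_injective R U hN hR hL hg ?_⟩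
    show resY hle (chartU R U he hf (AdjoinRoot.mk _ Q)) = resY hle ((π.app U.1).hom g ^ m * c)
    rw [resY_chart R U he hf V hle, rootRes, AdjoinRoot.map, AdjoinRoot.lift_mk, ← eval₂_map,
      ← AdjoinRoot.algebraMap_eq, ← aeval_def, AdjoinRoot.aeval_eq]
    have hQ' : Q.map (resX X hle) = C (resX X hle g ^ m) * P := hQ
    rw [hQ', map_mul, map_mul, map_pow, map_pow, AdjoinRoot.mk_C, map_mul, map_pow, chartU_of,
      ← resY_app hle, ← hy, map_pow]

end Groth.Calg6.CycCov
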