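import Groth.Agent.Calg6.CycCov.Kummer2
import Mathlib.RingTheory.RootsOfUnity.PrimitiveRoots

/-!
The eigenspace decomposition of the normalisation of `B[t]/(t^N − u ∏ g_j^{α_j})`.
-/

universe u

set_option autoImplicit false

open Polynomial

namespace Groth.Calg6.CycCov

/-- An element lying in each of pairwise regular principal ideals lies in the product. -/
theorem prod_dvd_of_forall_dvd {B : Type u} [CommRing B] {ι : Type*} (s : Finset ι) (g : ι → B)
    (hreg : ∀ j l, j ≠ l → ∀ y, g j ∣ g l * y → g j ∣ y) {z : B} (hz : ∀ j ∈ s, g j ∣ z) :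
    (∏ j ∈ s, g j) ∣ z := by
  classical
  induction s using Finset.induction with
  | empty => simp
  | insert j s hj ih =>
    obtain ⟨y, rfl⟩ := ih fun l hl => hz l (Finset.mem_insert_of_mem hl)
    have key : ∀ (t : Finset ι), j ∉ t → ∀ y, g j ∣ (∏ l ∈ t, g l) * y → g j ∣ y := by
      intro t
      induction t using Finset.induction with
      | empty => intro _ y hy; simpa using hy
      | insert l t hl iht =>
        intro hjt y hy
        rw [Finset.prod_insert hl, mul_assoc] at hy
        exact iht (fun h => hjt (Finset.mem_insert_of_mem h)) y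
          (hreg j l (fun h => hjt (h ▸ Finset.mem_insert_self j t)) _ hy)
    obtain ⟨y', rfl⟩ := key s hj y (hz j (Finset.mem_insert_self j s))
    rw [Finset.prod_insert hj]
    exact ⟨y', by ring⟩

/-- The divisibility forced by an integral `N`-th power. -/
theorem dvd_mul_prod_floor {B : Type u} [CommRing B] [IsDomain B] [IsIntegrallyClosed B] {ι : Type*} [Fintype ι]
    (g : ι → B) (hg : ∀ j, g j ≠ 0) (hred : ∀ j, IsReduced (B ⧸ Ideal.span {g j}))
    (hreg : ∀ j l, j ≠ l → ∀ y, g j ∣ g l * y → g j ∣ y) {N : ℕ} (hN : 0 < N) {g0 a u : B} (hg0 : g0 ≠ 0)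
    (hu : IsUnit u) (e : ι → ℕ) (h : g0 ^ N ∣ a ^ N * (u * ∏ j, g j ^ e j)) :
    g0 ∣ a * ∏ j, g j ^ (e j / N) := by
  classical
  set G := ∏ j, g j ^ (e j / N)
  obtain ⟨b, hb⟩ := h
  set P := ∏ j, g j with hP
  -- `(a G P)^N = g0^N · b u⁻¹ ∏ g^(N − e mod N)`
  obtain ⟨ui, hui⟩ := hu.exists_right_inv
  have hsplit : (∏ j, g j ^ (N - e j % N)) * ∏ j, g j ^ e j = G ^ N * P ^ N := by
    rw [← Finset.prod_mul_distrib, ← Finset.prod_pow, ← Finset.prod_pow, ← Finset.prod_mul_distrib]
    refine Finset.prod_congr rfl fun j _ => ?_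
    rw [← pow_add, ← pow_mul, ← pow_add]
    congr 1
    have h1 := Nat.div_add_mod (e j) N
    have h2 := Nat.mod_lt (e j) hN
    rw [mul_comm (e j / N) N]
    omega
  have hpow : (a * G * P) ^ N = g0 ^ N * (b * ui * ∏ j, g j ^ (N - e j % N)) := by
    calc (a * G * P) ^ N = a ^ N * (G ^ N * P ^ N) * (u * ui) := by rw [hui]; ring
      _ = (a ^ N * (u * ∏ j, g j ^ e j)) * (ui * ∏ j, g j ^ (N - e j % N)) := by rw [← hsplit]; ring
      _ = _ := by rw [hb]; ring
  obtain ⟨z, hz, hzN⟩ := exists_div (C := B) (fun p _ => ⟨IsLocalization.isDomain_localization p.primeCompl_le_nonZeroDivisors,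
    isIntegrallyClosed_of_isLocalization _ p.primeCompl p.primeCompl_le_nonZeroDivisors⟩)
    (mem_nonZeroDivisors_of_ne_zero hg0) (a * G * P) 1 hN.ne' _ (by rw [pow_one]; exact hpow)
  rw [pow_one] at hz
  have hzj : ∀ j, g j ∣ z := fun j => by
    have h1 : g j ∣ z ^ N := by
      rw [hzN]
      refine Dvd.dvd.mul_left ((dvd_pow_self (g j) ?_).trans (Finset.dvd_prod_of_mem (fun j => g j ^ (N - e j % N)) (Finset.mem_univ j))) _
      have := Nat.mod_lt (e j) hN
      omega
    rw [← Ideal.mem_span_singleton] at h1 ⊢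
    exact ((Ideal.isRadical_iff_quotient_reduced _).mpr (hred j)) ⟨N, h1⟩
  obtain ⟨z', rfl⟩ := prod_dvd_of_forall_dvd Finset.univ g hreg fun j _ => hzj j
  refine ⟨z', mul_right_cancel₀ (Finset.prod_ne_zero_iff.mpr fun j _ => hg j) (hz.trans ?_)⟩
  ring

theorem sum_pow_eq_zero {B : Type u} [CommRing B] [IsDomain B] {N : ℕ} {ω : B} (h1 : ω ^ N = 1) (h : ω ≠ 1) :
    ∑ j ∈ Finset.range N, ω ^ j = 0 := by
  have := geom_sum_mul ω N
  rw [h1, sub_self] at this
  exact (mul_eq_zero.mp this).resolve_right (sub_ne_zero.mpr h)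

variable {B : Type u} [CommRing B] [IsDomain B] [IsIntegrallyClosed B] {C : Type u} [CommRing C] [Algebra B C]

/-- The decomposition: every element is uniquely `∑ b_i z_i`. -/
theorem bijective_sum [Module.Finite B C] {N : ℕ} (hN : 0 < N) (hNu : IsUnit (N : B)) {ω : B}
    (hω : IsPrimitiveRoot ω N) {ι : Type*} [Fintype ι] (g : ι → B) (α : ι → ℕ) (hg : ∀ j, g j ≠ 0)
    (hred : ∀ j, IsReduced (B ⧸ Ideal.span {g j})) (hreg : ∀ j l, j ≠ l → ∀ y, g j ∣ g l * y → g j ∣ y)
    {u f : B} (hu : IsUnit u) (hf : f = u * ∏ j, g j ^ α j)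
    (hC : EGA4.IsNormalRing C) (htf : ∀ b : B, b ≠ 0 → ∀ x : C, algebraMap B C b * x = 0 → x = 0)
    (ψ : AdjoinRoot ((X : B[X]) ^ N - Polynomial.C f) →ₐ[B] C) (hψ : Function.Injective ψ)
    {g0 : B} (hg0 : g0 ≠ 0)
    (hsurj : ∀ x : C, ∃ (m : ℕ) (p : AdjoinRoot ((X : B[X]) ^ N - Polynomial.C f)), ψ p = algebraMap B C g0 ^ m * x)
    (z : Fin N → C)
    (hz : ∀ i : Fin N, algebraMap B C (∏ j, g j ^ (i.1 * α j / N)) * z i = ψ (AdjoinRoot.root _) ^ i.1) :
    Function.Bijective fun b : Fin N → B => ∑ i, algebraMap B C (b i) * z i := by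
  classical
  set t := ψ (AdjoinRoot.root _) with ht
  let p := (X : B[X]) ^ N - Polynomial.C f
  have hp : p = (X : B[X]) ^ N - Polynomial.C f := rfl
  have hpm : p.Monic := monic_X_pow_sub_C f hN.ne'
  let G : Fin N → B := fun i => ∏ j, g j ^ (i.1 * α j / N)
  have hG : ∀ i, G i ≠ 0 := fun i => Finset.prod_ne_zero_iff.mpr fun j _ => pow_ne_zero _ (hg j)
  have hcomb : ∀ a : Fin N → B, (∑ i, algebraMap B C (a i) * t ^ i.1) = 0 → ∀ i, a i = 0 := by
    intro a ha i
    let P : B[X] := ∑ i : Fin N, monomial i.1 (a i)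
    have h1 : AdjoinRoot.mk p P = 0 := by
      refine hψ ?_
      rw [map_zero, ← ha, map_sum, map_sum]
      refine Finset.sum_congr rfl fun l _ => ?_
      rw [← Polynomial.C_mul_X_pow_eq_monomial, map_mul, map_pow, AdjoinRoot.mk_C, AdjoinRoot.mk_X, map_mul, map_pow,
        ← AdjoinRoot.algebraMap_eq, AlgHom.commutes]
    have hdeg : P.degree < p.degree := by
      rw [hp, degree_X_pow_sub_C hN]
      refine (degree_sum_le _ _).trans_lt ((Finset.sup_lt_iff (by exact WithBot.bot_lt_coe N)).mpr fun l _ => ?_)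
      exact (degree_monomial_le _ _).trans_lt (by exact_mod_cast l.2)
    have h2 : P = 0 := eq_zero_of_dvd_of_degree_lt (AdjoinRoot.mk_eq_zero.mp h1) hdeg
    have := congrArg (fun q => q.coeff i.1) h2
    simpa [P, finsetSum_coeff, coeff_monomial, Fin.val_inj] using this
  refine ⟨fun a b hab => ?_, fun x => ?_⟩
  · funext i
    have h0 : ∑ i, algebraMap B C (a i - b i) * z i = 0 := by
      simp only [map_sub, sub_mul, Finset.sum_sub_distrib]
      exact sub_eq_zero.mpr hab
    let T : B := ∏ l, G l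
    have h1 : ∑ i, algebraMap B C ((a i - b i) * ∏ l ∈ Finset.univ.erase i, G l) * t ^ i.1 = 0 := by
      have := congrArg (algebraMap B C T * ·) h0
      rw [mul_zero, Finset.mul_sum] at this
      refine (Finset.sum_congr rfl fun l _ => ?_).trans this
      show _ = algebraMap B C T * (algebraMap B C (a l - b l) * z l)
      rw [show T = G l * ∏ q ∈ Finset.univ.erase l, G q from (Finset.mul_prod_erase _ _ (Finset.mem_univ l)).symm,
        ← hz l, map_mul, map_mul]
      ring
    have := hcomb _ h1 i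
    rw [mul_eq_zero] at this
    exact sub_eq_zero.mp (this.resolve_right (Finset.prod_ne_zero_iff.mpr fun l _ => hG l))
  obtain ⟨m, q, hq⟩ := hsurj x
  set k := g0 ^ m
  have hk0 : k ≠ 0 := pow_ne_zero _ hg0
  have hkC : algebraMap B C k ∈ nonZeroDivisors C :=
    mem_nonZeroDivisors_iff_right.mpr fun y hy => htf k hk0 y (by rw [mul_comm]; exact hy)
  rw [← map_pow] at hq
  -- coefficients
  let r := AdjoinRoot.modByMonicHom hpm q
  let a : Fin N → B := fun i => r.coeff i.1
  have hrdeg : r.natDegree < N := by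
    have h1 : (q : AdjoinRoot p) = AdjoinRoot.mk p r := (AdjoinRoot.mk_leftInverse hpm q).symm
    obtain ⟨Q, rfl⟩ := AdjoinRoot.mk_surjective q
    simp only [r, AdjoinRoot.modByMonicHom_mk]
    have := natDegree_modByMonic_lt Q hpm (fun h => by
      have := congrArg natDegree h
      rw [hp, natDegree_X_pow_sub_C, natDegree_one] at this
      omega)
    rwa [hp, natDegree_X_pow_sub_C] at this
  have hqa : ∀ τ : AdjoinRoot p, aeval τ r = ∑ i : Fin N, algebraMap B _ (a i) * τ ^ i.1 := fun τ => by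
    rw [aeval_eq_sum_range' hrdeg, ← Fin.sum_univ_eq_sum_range (fun i => r.coeff i • τ ^ i)]
    exact Finset.sum_congr rfl fun i _ => Algebra.smul_def _ _
  have hqsum : q = ∑ i : Fin N, algebraMap B _ (a i) * AdjoinRoot.root p ^ i.1 := by
    rw [← hqa, AdjoinRoot.aeval_eq]
    exact (AdjoinRoot.mk_leftInverse hpm q).symm
  -- the twisted elements are divisible by `k`
  have hdiv : ∀ j : ℕ, ∃ y : C, algebraMap B C k * y = ∑ i : Fin N, algebraMap B C (ω ^ (j * i.1) * a i) * t ^ i.1 := by
    intro j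
    let σ : AdjoinRoot p →ₐ[B] AdjoinRoot p := AdjoinRoot.liftAlgHom p (Algebra.ofId B _)
      (algebraMap B _ (ω ^ j) * AdjoinRoot.root p) (by
        show eval₂ (algebraMap B (AdjoinRoot p)) _ p = 0
        rw [hp, eval₂_sub, eval₂_X_pow, eval₂_C, mul_pow, root_pow, ← map_pow, ← pow_mul, mul_comm j, pow_mul,
          hω.pow_eq_one, one_pow, map_one, one_mul, AdjoinRoot.algebraMap_eq, sub_self])
    obtain ⟨P, hPm, hP⟩ := Algebra.IsIntegral.isIntegral (R := B) x
    have h0 : aeval q (P.scaleRoots k) = 0 := by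
      refine hψ ?_
      rw [map_zero, ← aeval_algHom_apply, hq, aeval_def, scaleRoots_eval₂_mul, hP, mul_zero]
    have h1 : aeval (ψ (σ q)) (P.scaleRoots k) = 0 := by
      rw [aeval_algHom_apply, aeval_algHom_apply, h0, map_zero, map_zero]
    let T := Localization.Away (algebraMap B C k)
    let s : Submonoid.powers (algebraMap B C k) := ⟨_, Submonoid.mem_powers _⟩
    have hM : Submonoid.powers (algebraMap B C k) ≤ nonZeroDivisors C := Submonoid.powers_le.mpr hkC
    have hint : IsIntegral C (IsLocalization.mk' T (ψ (σ q)) s) := ⟨P.map (algebraMap B C), hPm.map _, by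
      have e1 := congrArg (algebraMap C T) h1
      rw [map_zero, aeval_def, hom_eval₂, ← IsLocalization.mk'_spec' T (ψ (σ q)) s] at e1
      rw [show (s : C) = algebraMap B C k from rfl, show algebraMap C T (algebraMap B C k) =
        ((algebraMap C T).comp (algebraMap B C)) k from rfl, scaleRoots_eval₂_mul] at e1
      rw [eval₂_map]
      exact ((((IsLocalization.map_units T s)).pow _).mul_right_eq_zero).mp e1⟩
    obtain ⟨y, hy⟩ := Groth.Ega4b.mem_range_of_isIntegral_of_isNormalRing hC _ hM T hint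
    rw [eq_comm, IsLocalization.mk'_eq_iff_eq_mul, ← map_mul] at hy
    refine ⟨y, ?_⟩
    rw [mul_comm, ← show ψ (σ q) = y * algebraMap B C k from IsLocalization.injective T hM hy, hqsum, map_sum, map_sum]
    refine Finset.sum_congr rfl fun i _ => ?_
    have hσr : σ (AdjoinRoot.root p) = algebraMap B _ (ω ^ j) * AdjoinRoot.root p := AdjoinRoot.liftAlgHom_root _ _ _ _
    rw [map_mul, map_mul, map_pow, map_pow, AlgHom.commutes, AlgHom.commutes, hσr, map_mul, AlgHom.commutes,
      mul_pow, ← map_pow, ← pow_mul, map_mul, ← ht]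
    ring
  choose y hy using hdiv
  obtain ⟨Ni, hNi⟩ := hNu.exists_right_inv
  have hcomp : ∀ i : Fin N, ∃ c : C, algebraMap B C k * c = algebraMap B C (a i) * t ^ i.1 := fun i => by
    refine ⟨algebraMap B C Ni * ∑ j ∈ Finset.range N, algebraMap B C (ω ^ (j * (N - i.1))) * y j, ?_⟩
    have inner : ∀ l : Fin N, (∑ j ∈ Finset.range N, ω ^ (j * (N - i.1)) * (ω ^ (j * l.1) * a l)) =
        if l = i then (N : B) * a l else 0 := fun l => by
      have e1 : ∀ j, ω ^ (j * (N - i.1)) * (ω ^ (j * l.1) * a l) = (ω ^ (N - i.1 + l.1)) ^ j * a l := fun j => by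
        rw [← mul_assoc, ← pow_add, ← mul_add, ← pow_mul, mul_comm]
        ring
      simp only [e1, ← Finset.sum_mul]
      split_ifs with hl
      · subst hl
        rw [Nat.sub_add_cancel l.2.le, hω.pow_eq_one]
        simp
      · rw [sum_pow_eq_zero, zero_mul]
        · rw [← pow_mul, mul_comm, pow_mul, hω.pow_eq_one, one_pow]
        · intro h1
          obtain ⟨c, hc⟩ := hω.dvd_of_pow_eq_one _ h1
          have := l.2
          have := i.2
          rcases c with _ | _ | c
          · omega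
          · exact hl (Fin.ext (by omega))
          · rw [Nat.mul_add, Nat.mul_add] at hc; omega
    have inner' : ∀ l : Fin N, (∑ j ∈ Finset.range N, ω ^ (j * (N - i.1)) * ω ^ (j * l.1)) * a l =
        if l = i then (N : B) * a l else 0 := fun l => by
      rw [Finset.sum_mul]
      simp only [mul_assoc]
      exact inner l
    have step : algebraMap B C k * ∑ j ∈ Finset.range N, algebraMap B C (ω ^ (j * (N - i.1))) * y j =
        algebraMap B C ((N : B) * a i) * t ^ i.1 := by
      rw [Finset.mul_sum]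
      simp only [mul_left_comm (algebraMap B C k), hy, Finset.mul_sum, ← mul_assoc, ← map_mul]
      rw [Finset.sum_comm]
      simp only [← Finset.sum_mul, ← map_sum, inner', apply_ite (algebraMap B C), map_zero, ite_mul, zero_mul,
        Finset.sum_ite_eq', Finset.mem_univ, if_true]
    rw [mul_left_comm, step, ← mul_assoc, ← map_mul, ← mul_assoc, mul_comm Ni, hNi, one_mul]
  choose c hc using hcomp
  have hmul : ∀ i : Fin N, ∃ b : B, c i = algebraMap B C b * z i := fun i => by
    have hdvd : k ^ N ∣ a i ^ N * f ^ i.1 := by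
      obtain ⟨P, hPm, hP⟩ := Algebra.IsIntegral.isIntegral (R := B) (c i ^ N)
      refine Groth.Ega4b.dvd_of_scaleRoots (pow_ne_zero _ hk0) hPm ?_
      have hinjB : Function.Injective (algebraMap B C) := fun b b' e => by
        by_contra hne
        have h1 := htf (b - b') (sub_ne_zero.mpr hne) 1 (by rw [mul_one, map_sub, e, sub_self])
        have h01 : (0 : C) = 1 := h1.symm
        have := hcomb (fun _ => 1) (by
          have := subsingleton_of_zero_eq_one h01
          exact Subsingleton.elim _ _) ⟨0, hN⟩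
        exact one_ne_zero this
      refine hinjB ?_
      rw [map_zero, ← eval₂_at_apply]
      have : algebraMap B C (a i ^ N * f ^ i.1) = algebraMap B C (k ^ N) * c i ^ N := by
        rw [map_pow (algebraMap B C) k, ← mul_pow, hc, mul_pow, map_mul, ← map_pow, ← pow_mul, mul_comm i.1, pow_mul,
          ht, ← map_pow ψ, root_pow, ← AdjoinRoot.algebraMap_eq, AlgHom.commutes, map_pow, map_pow]
      rw [this, scaleRoots_eval₂_mul, hP, mul_zero]
    rw [hf, mul_pow, ← Finset.prod_pow] at hdvd
    simp only [← pow_mul] at hdvd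
    obtain ⟨b, hb⟩ := dvd_mul_prod_floor g hg hred hreg hN hk0 (hu.pow i.1) (fun j => α j * i.1) hdvd
    refine ⟨b, (mul_cancel_right_mem_nonZeroDivisors hkC).mp ?_⟩
    rw [mul_comm, hc, ← hz i, ← mul_assoc, ← map_mul]
    have : a i * ∏ j, g j ^ (i.1 * α j / N) = k * b := by
      rw [← hb]
      simp only [mul_comm i.1]
    rw [this, map_mul]
    ring
  choose b hb using hmul
  refine ⟨b, (mul_cancel_right_mem_nonZeroDivisors hkC).mp ?_⟩
  show (∑ i, algebraMap B C (b i) * z i) * algebraMap B C k = x * algebraMap B C k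
  rw [Finset.sum_mul, mul_comm x, ← hq, hqsum, map_sum]
  refine Finset.sum_congr rfl fun i _ => ?_
  rw [← hb, mul_comm, hc, map_mul, map_pow, AlgHom.commutes]

end Groth.Calg6.CycCov
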