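import Groth.Agent.Calg6.CycCov.Cover
import Groth.Agent.Calg6.CycCov.Chart
import Groth.Agent.Calg6.CycCov.Capelli
import Groth.Agent.PicAux.Integral

/-!
Irreducibility of cyclic covers; roots of sections of invertible modules.
-/

universe u

set_option autoImplicit false

open CategoryTheory AlgebraicGeometry Opposite TopologicalSpace Groth.PicAux Polynomial

namespace Groth.Calg6.CycCov

variable {X Y : Scheme.{u}} {L : X.Modules} {N : ℕ} {s : Coh.structureModule X ⟶ CohB1.tensorPow L N}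
  {π : Y ⟶ X} (R : _root_.CycCov.Root L N s π)

theorem nonempty_inf [IsIntegral X] {U V : X.Opens} (hU : Nonempty U) (hV : Nonempty V) : Nonempty (U ⊓ V : X.Opens) := by
  obtain ⟨⟨p, hp⟩⟩ := hU
  obtain ⟨⟨q, hq⟩⟩ := hV
  obtain ⟨z, hz⟩ := nonempty_preirreducible_inter U.isOpen V.isOpen ⟨p, hp⟩ ⟨q, hq⟩
  exact ⟨⟨z, hz⟩⟩

include R in
/-- The preimage of a non-empty open is dense in the cover. -/
theorem dense_preimage [IsIntegral X] (hN : N ≠ 0) (hR : _root_.CycCov.IsCover R)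
    (hL : PicF.IsInvertible L) (O : X.Opens) (hO : Nonempty O) : Dense ((π ⁻¹ᵁ O : Y.Opens) : Set Y) := by
  have : IsFinite π := hR.1
  have : ∀ y : Y, _root_.IsReduced (Y.presheaf.stalk y) := fun y => by have := (hR.2.1 y).1; infer_instance
  have : IsReduced Y := isReduced_of_isReduced_stalk Y
  rw [dense_iff_inter_open]
  rintro Ω hΩ ⟨z, hz⟩
  by_contra hne
  obtain ⟨U, e, f, hzU, -, he, hf⟩ := exists_frame hL N s (show π z ∈ (⊤ : X.Opens) from trivial)
  obtain ⟨w, hwU, hwO⟩ := nonempty_inf (U := U.1) (V := O) ⟨⟨_, hzU⟩⟩ hO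
  obtain ⟨g, hgle, hwg⟩ := U.2.exists_basicOpen_le (V := O) ⟨w, hwO⟩ hwU
  have hg : g ≠ 0 := fun h => by rw [h, Scheme.basicOpen_zero] at hwg; exact hwg
  obtain ⟨c, hcle, hzc⟩ := (U.2.preimage π).exists_basicOpen_le (V := ⟨Ω, hΩ⟩) ⟨z, hz⟩ hzU
  have h0 : (π.app U.1).hom g * c = 0 := by
    rw [← basicOpen_eq_bot_iff, Scheme.basicOpen_mul, eq_bot_iff]
    rintro y ⟨hy1, hy2⟩
    refine hne ⟨y, hcle hy2, ?_⟩
    exact hgle (by rw [← Scheme.preimage_basicOpen] at hy1; exact hy1)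
  rw [eq_zero_of_app_mul R U hN hR hL hg h0, Scheme.basicOpen_zero] at hzc
  exact hzc

include R in
/-- The cover is irreducible iff its simple algebra over an open where the section is invertible is a domain. -/
theorem irreducibleSpace_iff {k : Type u} [Field k] (p : X ⟶ Spec (CommRingCat.of k)) [Smooth p] [IsIntegral X]
    (hN : N ≠ 0) (hNk : (N : k) ≠ 0) (hL : PicF.IsInvertible L) (hR : _root_.CycCov.IsCover R)
    (U : X.affineOpens) [Nonempty U.1] {e : Γ(L, U.1)} (he : Gen L U.1 e) {f : Γ(X, U.1)}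
    (hf : SecTwist.val s U.1 = f • _root_.CycCov.lpow L U.1 e N) (hfu : IsUnit f) :
    IrreducibleSpace Y ↔ IsDomain (AdjoinRoot ((Polynomial.X : Γ(X, U.1)[X]) ^ N - C f)) := by
  have : IsFinite π := hR.1
  have : ∀ y : Y, _root_.IsReduced (Y.presheaf.stalk y) := fun y => by have := (hR.2.1 y).1; infer_instance
  have : IsReduced Y := isReduced_of_isReduced_stalk Y
  have hb := chart_bijective_of_isUnit R U he hf p hN hNk hL hR hfu
  let eq := RingEquiv.ofBijective _ hb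
  have hdense := dense_preimage R hN hR hL U.1 ‹_›
  set V := π ⁻¹ᵁ U.1
  have hV : IsAffineOpen V := U.2.preimage π
  have : IsAffine V.toScheme := hV
  rw [eq.toMulEquiv.isDomain_iff]
  constructor
  · intro hY
    have : IsIntegral Y := isIntegral_of_irreducibleSpace_of_isReduced _
    obtain ⟨y, hy⟩ := hdense.nonempty
    have : Nonempty V := ⟨⟨y, hy⟩⟩
    infer_instance
  · intro h
    have : IsDomain Γ(V.toScheme, ⊤) := V.topIso.commRingCatIsoToRingEquiv.toMulEquiv.isDomain_iff.mpr h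
    have : Nonempty V.toScheme := by
      by_contra hne
      have hbot : V = ⊥ := by ext z; exact ⟨fun hz => (hne ⟨⟨z, hz⟩⟩).elim, fun hz => hz.elim⟩
      have hs : Subsingleton Γ(Y, V) := by
        rw [hbot]; exact CommRingCat.subsingleton_of_isTerminal Y.sheaf.isTerminalOfEmpty
      exact not_subsingleton Γ(Y, V) hs
    have : IsIntegral V.toScheme := isIntegral_of_isAffine_of_isDomain _
    have h1 := (IrreducibleSpace.isIrreducible_univ V.toScheme).image V.ι V.ι.continuous.continuousOn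
    rw [Set.image_univ, Scheme.Opens.range_ι] at h1
    have h2 := h1.closure
    rw [hdense.closure_eq] at h2
    exact irreducibleSpace_def _ |>.mpr h2

/-- Sections of the invertible module agreeing on a non-empty open agree. -/
theorem sec_eq_of_res_eq [IsIntegral X] {M : X.Modules} (hM : PicF.IsInvertible M) {U V : X.Opens} (h : V ≤ U)
    (hne : Nonempty U → Nonempty V) {x y : Γ(M, U)} (hxy : res M h x = res M h y) : x = y := by
  rcases isEmpty_or_nonempty U with hU | hU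
  · refine res_ext (ι := PEmpty.{1}) (fun i => i.elim) (fun i => i.elim) (fun z hz => (hU.false ⟨z, hz⟩).elim)
      fun i => i.elim
  · rw [← sub_eq_zero]
    refine inv_sec_eq_zero hM h (hne hU) _ ?_
    rw [show res M h (x - y) = res M h x - res M h y from map_sub _ x y, hxy, sub_self]

/-- An integral root section: from a frame where `f = b^μ` to a global section. -/
theorem exists_root_section {k : Type u} [Field k] (p : X ⟶ Spec (CommRingCat.of k)) [Smooth p] [IsIntegral X]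
    (hN : N ≠ 0) (hL : PicF.IsInvertible L) {U₀ : X.affineOpens} [Nonempty U₀.1] {e₀ : Γ(L, U₀.1)}
    (he₀ : Gen L U₀.1 e₀) {f b : Γ(X, U₀.1)}
    (hf : SecTwist.val s U₀.1 = f • _root_.CycCov.lpow L U₀.1 e₀ N) {μ M : ℕ} (hμ : 0 < μ) (hμM : M * μ = N)
    (hb : f = b ^ μ) :
    ∃ s' : Coh.structureModule X ⟶ CohB1.tensorPow L M,
      (show Γ(CohB1.tensorPow L M, U₀.1) from SecTwist.val s' U₀.1) = b • powSec e₀ M := by
  classical
  have hLM := isInvertible_tensorPow hL M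
  let σ₀ : Γ(CohB1.tensorPow L M, U₀.1) := b • powSec e₀ M
  have key : ∀ x : X, ∃ (U : X.affineOpens) (_ : x ∈ U.1) (σ : Γ(CohB1.tensorPow L M, U.1)),
      res _ (inf_le_left : U.1 ⊓ U₀.1 ≤ U.1) σ = res _ (inf_le_right : U.1 ⊓ U₀.1 ≤ U₀.1) σ₀ := fun x => by
    obtain ⟨U, e, a, hxU, -, he, ha⟩ := exists_frame hL N s (show x ∈ (⊤ : X.Opens) from trivial)
    have : Nonempty U.1 := ⟨⟨x, hxU⟩⟩
    have : Nonempty (U.1 ⊓ U₀.1 : X.Opens) := nonempty_inf ‹_› ‹_›
    obtain ⟨t, ht⟩ := he.exists_coeff (inf_le_left : U.1 ⊓ U₀.1 ≤ U.1) (res L (inf_le_right : U.1 ⊓ U₀.1 ≤ U₀.1) e₀)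
    set c := resX X (inf_le_right : U.1 ⊓ U₀.1 ≤ U₀.1) b * t ^ M
    have hc : c ^ μ = resX X (inf_le_left : U.1 ⊓ U₀.1 ≤ U.1) a := by
      refine ((he.pow N).smul_inj (inf_le_left : U.1 ⊓ U₀.1 ≤ U.1) ?_).symm
      rw [res_powSec]
      have h1 := equation_res (inf_le_left : U.1 ⊓ U₀.1 ≤ U.1) ha
      have h2 := equation_res (inf_le_right : U.1 ⊓ U₀.1 ≤ U₀.1) hf
      rw [← powSec_eq_lpow] at h1 h2
      have h3 := h1.symm.trans h2
      rw [ht, powSec_smul] at h3
      erw [smul_smul] at h3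
      rw [mul_pow, ← pow_mul, hμM, ← map_pow, ← hb]
      exact h3
    -- extend `c`
    have hη : genericPoint X ∈ (U.1 ⊓ U₀.1 : X.Opens) :=
      (genericPoint_spec X).mem_open_set_iff (U.1 ⊓ U₀.1).2 |>.mpr (by
        obtain ⟨⟨z, hz⟩⟩ := ‹Nonempty (U.1 ⊓ U₀.1 : X.Opens)›; exact ⟨z, trivial, hz⟩)
    have := functionField_isFractionRing_of_isAffineOpen X U.1 U.2
    have := isIntegrallyClosed_Γ_of_smooth p U.2
    let κ : X.functionField := X.presheaf.germ _ _ hη c
    have hκ : IsIntegral Γ(X, U.1) κ := by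
      refine ⟨Polynomial.X ^ μ - C a, monic_X_pow_sub_C a hμ.ne', ?_⟩
      rw [eval₂_sub, eval₂_X_pow, eval₂_C, sub_eq_zero, ← map_pow, hc]
      exact TopCat.Presheaf.germ_res_apply X.presheaf (homOfLE (inf_le_left : U.1 ⊓ U₀.1 ≤ U.1)) _ hη a
    obtain ⟨b', hb'⟩ := IsIntegrallyClosed.algebraMap_eq_of_integral hκ
    have hb'' : resX X (inf_le_left : U.1 ⊓ U₀.1 ≤ U.1) b' = c := by
      refine germ_injective_of_isIntegral X _ hη ?_
      exact (TopCat.Presheaf.germ_res_apply X.presheaf (homOfLE (inf_le_left : U.1 ⊓ U₀.1 ≤ U.1)) _ hη b').trans hb'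
    refine ⟨U, hxU, b' • powSec e M, ?_⟩
    rw [res_smul, res_smul, res_powSec, res_powSec, hb'', ht, powSec_smul, ← mul_smul]
  choose U hxU σ hσ using key
  have hcompat : ∀ x y, res _ (inf_le_left : (U x).1 ⊓ (U y).1 ≤ (U x).1) (σ x) =
      res _ (inf_le_right : (U x).1 ⊓ (U y).1 ≤ (U y).1) (σ y) := fun x y => by
    refine sec_eq_of_res_eq hLM (inf_le_left : ((U x).1 ⊓ (U y).1) ⊓ U₀.1 ≤ _)
      (fun h => nonempty_inf h ‹_›) ?_
    simp only [res_res]
    have h1 := congrArg (res _ (le_inf (inf_le_left.trans inf_le_left) inf_le_right :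
      ((U x).1 ⊓ (U y).1) ⊓ U₀.1 ≤ (U x).1 ⊓ U₀.1)) (hσ x)
    have h2 := congrArg (res _ (le_inf (inf_le_left.trans inf_le_right) inf_le_right :
      ((U x).1 ⊓ (U y).1) ⊓ U₀.1 ≤ (U y).1 ⊓ U₀.1)) (hσ y)
    simp only [res_res] at h1 h2
    exact h1.trans h2.symm
  obtain ⟨σt, hσt, -⟩ := res_glue (U := (⊤ : X.Opens)) (fun x => (U x).1) (fun _ => le_top)
    (fun x _ => Opens.mem_iSup.mpr ⟨x, hxU x⟩) σ hcompat
  obtain ⟨φ, hφ⟩ := exists_hom_structure σt
  refine ⟨φ, ?_⟩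
  have hval : (show Γ(CohB1.tensorPow L M, (⊤ : X.Opens)) from SecTwist.val φ ⊤) = σt := hφ
  have h0 : res _ (le_top : U₀.1 ≤ ⊤) σt = σ₀ := by
    refine res_ext (fun x => U₀.1 ⊓ (U x).1) (fun _ => inf_le_left)
      (fun z hz => Opens.mem_iSup.mpr ⟨z, hz, hxU z⟩) fun x => ?_
    have h1 := congrArg (res _ (inf_le_right : U₀.1 ⊓ (U x).1 ≤ (U x).1)) (hσt x)
    have h2 := congrArg (res _ (le_inf inf_le_right inf_le_left : U₀.1 ⊓ (U x).1 ≤ (U x).1 ⊓ U₀.1)) (hσ x)
    simp only [res_res] at h1 h2 ⊢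
    exact h1.trans h2
  exact (val_res φ (le_top : U₀.1 ≤ ⊤)).symm.trans (by rw [hval]; exact h0)

end Groth.Calg6.CycCov
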