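import Groth.Agent.Calg6.CycCov.Kummer

/-!
The normalisation of `B[t]/(t^N − u g^a)` for a regular parameter `g` and a unit `u`.
-/

universe u

set_option autoImplicit false

open Polynomial

namespace Groth.Calg6.CycCov

variable {B : Type u} [CommRing B]

/-- `B[v]/(v^d − u)`. -/
abbrev KE' (B : Type u) [CommRing B] (d : ℕ) (u : B) : Type u := AdjoinRoot ((X : B[X]) ^ d - C u)

/-- The parameter `v^c g`. -/
noncomputable abbrev kpar (d : ℕ) (u g : B) (c : ℕ) : KE' B d u :=
  AdjoinRoot.root _ ^ c * AdjoinRoot.of _ g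

/-- `B[v,w]/(v^d − u, w^n − v^c g)`. -/
abbrev KE (d n : ℕ) (u g : B) (c : ℕ) : Type u := AdjoinRoot ((X : (KE' B d u)[X]) ^ n - C (kpar d u g c))

theorem root_pow {R : Type u} [CommRing R] (n : ℕ) (a : R) :
    AdjoinRoot.root ((X : R[X]) ^ n - C a) ^ n = AdjoinRoot.of _ a := by
  have := AdjoinRoot.eval₂_root ((X : R[X]) ^ n - C a)
  rw [eval₂_sub, eval₂_X_pow, eval₂_C, sub_eq_zero] at this
  exact this

theorem finrank_adjoinRoot {R : Type u} [CommRing R] [Nontrivial R] {n : ℕ} (hn : n ≠ 0) (a : R) :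
    Module.finrank R (AdjoinRoot ((X : R[X]) ^ n - C a)) = n := by
  rw [(AdjoinRoot.powerBasis' (monic_X_pow_sub_C a hn)).finrank, AdjoinRoot.powerBasis'_dim, natDegree_X_pow_sub_C]

variable [IsDomain B] [IsRegularRing B]

theorem isRegularRing_KE'_quot {d : ℕ} (hd : d ≠ 0) (hdu : IsUnit (d : B))
    {u g : B} (hu : IsUnit u) (c : ℕ) [IsRegularRing (B ⧸ Ideal.span {g})] :
    IsRegularRing (KE' B d u ⧸ Ideal.span {kpar d u g c}) := by
  have hv : IsUnit (AdjoinRoot.root ((X : B[X]) ^ d - C u)) := by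
    rw [← isUnit_pow_iff hd, root_pow]; exact hu.map _
  have e1 : Ideal.span {kpar d u g c} = (Ideal.span {g}).map (AdjoinRoot.of ((X : B[X]) ^ d - C u)) := by
    rw [Ideal.map_span, Set.image_singleton]
    exact Ideal.span_singleton_mul_left_unit (hv.pow c) _
  suffices IsRegularRing ((B ⧸ Ideal.span {g})[X] ⧸
      Ideal.span {((X : B[X]) ^ d - C u).map (Ideal.Quotient.mk (Ideal.span {g}))}) from
    IsRegularRing.of_ringEquiv (R := (B ⧸ Ideal.span {g})[X] ⧸
      Ideal.span {((X : B[X]) ^ d - C u).map (Ideal.Quotient.mk (Ideal.span {g}))}) (((AdjoinRoot.quotAdjoinRootEquivQuotPolynomialQuot (Ideal.span {g}) _).symm).trans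
      (Ideal.quotEquivOfEq e1.symm))
  rcases subsingleton_or_nontrivial (B ⧸ Ideal.span {g}) with hs | hnt
  · exact IsRegularRing.of_ringEquiv (RingEquiv.ofBijective
      ((Ideal.Quotient.mk (Ideal.span {((X : B[X]) ^ d - C u).map (Ideal.Quotient.mk (Ideal.span {g}))})).comp C)
      ⟨fun a b _ => Subsingleton.elim _ _, fun z => ⟨0, by
        obtain ⟨z, rfl⟩ := Ideal.Quotient.mk_surjective z
        exact congrArg _ (Subsingleton.elim (α := (B ⧸ Ideal.span {g})[X]) _ _)⟩⟩)
  have h2 := (Groth.EtaleAlgebra.Abhy.etale_adjoinRoot_X_pow_sub_C (R := B ⧸ Ideal.span {g}) hd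
    (by simpa using hdu.map (Ideal.Quotient.mk (Ideal.span {g}))) (hu.map (Ideal.Quotient.mk (Ideal.span {g}))).unit).2
  rw [IsUnit.unit_spec] at h2
  have h3 : IsRegularRing (AdjoinRoot ((X : (B ⧸ Ideal.span {g})[X]) ^ d - C (Ideal.Quotient.mk (Ideal.span {g}) u))) :=
    Groth.Agent.S9408.isRegularRing_of_smooth (B ⧸ Ideal.span {g}) _
  rw [Polynomial.map_sub, Polynomial.map_pow, map_X, map_C]
  exact h3


theorem isRegularRing_KE {d n : ℕ} (hd : d ≠ 0) (hn : n ≠ 0) (hdu : IsUnit (d : B)) (hnu : IsUnit (n : B))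
    {u g : B} (hu : IsUnit u) (hg : g ≠ 0) (c : ℕ) [IsRegularRing (B ⧸ Ideal.span {g})] :
    IsRegularRing (KE d n u g c) := by
  have h := Groth.EtaleAlgebra.Abhy.etale_adjoinRoot_X_pow_sub_C hd hdu hu.unit
  rw [hu.unit_spec] at h
  have := h.2
  have : IsRegularRing (KE' B d u) := Groth.Agent.S9408.isRegularRing_of_smooth B _
  have hv : IsUnit (AdjoinRoot.root ((X : B[X]) ^ d - C u)) := by
    rw [← isUnit_pow_iff hd, root_pow]; exact hu.map _
  have : IsRegularRing (KE' B d u ⧸ Ideal.span {kpar d u g c}) := isRegularRing_KE'_quot hd hdu hu c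
  have hreg : kpar d u g c ∈ nonZeroDivisors (KE' B d u) := by
    refine mul_mem (hv.pow c).mem_nonZeroDivisors (mem_nonZeroDivisors_iff_right.mpr fun x hx => ?_)
    have := (monic_X_pow_sub_C u hd).free_adjoinRoot
    rw [← AdjoinRoot.algebraMap_eq, mul_comm, ← Algebra.smul_def] at hx
    exact (smul_eq_zero.mp hx).resolve_left hg
  refine isRegularRing_adjoinRoot hn ?_ _ hreg
  simpa using hnu.map (algebraMap B (KE' B d u))

/-- The pullback of `g` is the `n`-th power of its radical. -/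
theorem radical_pow_KE {d n : ℕ} (hd : d ≠ 0) (hn : n ≠ 0) (hdu : IsUnit (d : B))
    {u g : B} (hu : IsUnit u) (c : ℕ) [IsRegularRing (B ⧸ Ideal.span {g})] :
    ((Ideal.span {g}).map (algebraMap B (KE d n u g c))).radical ^ n =
      (Ideal.span {g}).map (algebraMap B (KE d n u g c)) := by
  have hv : IsUnit (AdjoinRoot.root ((X : B[X]) ^ d - C u)) := by
    rw [← isUnit_pow_iff hd, root_pow]; exact hu.map _
  set w := AdjoinRoot.root ((X : (KE' B d u)[X]) ^ n - C (kpar d u g c))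
  have hJ : (Ideal.span {g}).map (algebraMap B (KE d n u g c)) = Ideal.span {w} ^ n := by
    have h1 : AdjoinRoot.of ((X : (KE' B d u)[X]) ^ n - C (kpar d u g c)) (kpar d u g c) =
        AdjoinRoot.of _ (AdjoinRoot.root ((X : B[X]) ^ d - C u)) ^ c * algebraMap B (KE d n u g c) g := by
      rw [IsScalarTower.algebraMap_apply B (KE' B d u) (KE d n u g c) g]
      exact (map_mul _ _ _).trans (congrArg₂ _ (map_pow _ _ _) rfl)
    rw [Ideal.map_span, Set.image_singleton, Ideal.span_singleton_pow, root_pow, h1]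
    exact (Ideal.span_singleton_mul_left_unit ((hv.map _).pow c) _).symm
  have := isRegularRing_KE'_quot (g := g) hd hdu hu c
  have := Groth.Ega4Algebra1.isReduced_of_isRegularRing (KE' B d u ⧸ Ideal.span {kpar d u g c})
  have : IsReduced (KE d n u g c ⧸ Ideal.span {w}) :=
    isReduced_of_injective _ (quotRootEquiv hn (kpar d u g c)).injective
  have hrad : (Ideal.span {w}).IsRadical := (Ideal.isRadical_iff_quotient_reduced _).mpr this
  rw [hJ, Ideal.radical_pow _ hn, hrad.radical]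

omit [IsDomain B] [IsRegularRing B] in
/-- Dividing an element of a normal ring by a power of `g`. -/
theorem exists_div {C : Type u} [CommRing C] (hC : EGA4.IsNormalRing C) {g : C} (hg : g ∈ nonZeroDivisors C)
    (x : C) (j : ℕ) {k : ℕ} (hk : k ≠ 0) (y : C) (h : x ^ k = (g ^ j) ^ k * y) :
    ∃ z, x = g ^ j * z ∧ z ^ k = y := by
  let M := Submonoid.powers g
  let T := Localization.Away g
  have hM : M ≤ nonZeroDivisors C := Submonoid.powers_le.mpr hg
  let s : M := ⟨g ^ j, j, rfl⟩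
  have hk' : IsLocalization.mk' T x s ^ k = algebraMap C T y := by
    rw [← IsLocalization.mk'_pow, IsLocalization.mk'_eq_iff_eq_mul, SubmonoidClass.coe_pow, ← map_mul, h, mul_comm]
  have hint : IsIntegral C (IsLocalization.mk' T x s) :=
    ⟨Polynomial.X ^ k - Polynomial.C y, monic_X_pow_sub_C y hk, by
      rw [eval₂_sub, eval₂_X_pow, eval₂_C, hk', sub_self]⟩
  obtain ⟨z, hz⟩ := Groth.Ega4b.mem_range_of_isIntegral_of_isNormalRing hC M hM T hint
  refine ⟨z, ?_, IsLocalization.injective T hM (by rw [map_pow, hz, hk'])⟩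
  rw [eq_comm, IsLocalization.mk'_eq_iff_eq_mul, ← map_mul] at hz
  rw [IsLocalization.injective T hM hz, mul_comm]

variable {C : Type u} [CommRing C] [Algebra B C]

/-- `C` is `B[v,w]/(v^d − u, w^n − v^c g)`. -/
theorem exists_bijective_KE {N d n a' c q m : ℕ} (hd : d ≠ 0) (hn : n ≠ 0) (hN : d * n = N)
    (hNu : IsUnit (N : B)) (hexp : c * a' + q * n = 1 + m * n) {u g : B} (hu : IsUnit u) (hg : g ≠ 0)
    [IsRegularRing (B ⧸ Ideal.span {g})] [Module.Finite B C]
    (hC : EGA4.IsNormalRing C) (hgC : ∀ b : B, b ≠ 0 → ∀ x : C, algebraMap B C b * x = 0 → x = 0)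
    (ψ : AdjoinRoot ((X : B[X]) ^ N - Polynomial.C (g ^ (d * a') * u)) →ₐ[B] C) (hψ : Function.Injective ψ)
    (hsurj : ∀ x : C, ∃ (i : ℕ) (p : AdjoinRoot ((X : B[X]) ^ N - Polynomial.C (g ^ (d * a') * u))),
      ψ p = algebraMap B C g ^ i * x) :
    IsRegularRing (KE d n u g c) ∧ ∃ φ : KE d n u g c →ₐ[B] C, Function.Bijective φ := by
  have hN0 : N ≠ 0 := hN ▸ mul_ne_zero hd hn
  have hdu : IsUnit (d : B) := isUnit_of_mul_isUnit_left (show IsUnit ((d : B) * n) by rwa [← Nat.cast_mul, hN])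
  have hnu : IsUnit (n : B) := isUnit_of_mul_isUnit_right (show IsUnit ((d : B) * n) by rwa [← Nat.cast_mul, hN])
  have hEreg := isRegularRing_KE hd hn hdu hnu hu hg c
  refine ⟨hEreg, ?_⟩
  set G := algebraMap B C g with hG
  set U := algebraMap B C u with hUdef
  have hGn : G ∈ nonZeroDivisors C :=
    mem_nonZeroDivisors_iff_right.mpr fun x hx => hgC g hg x (by rw [mul_comm]; exact hx)
  set t := ψ (AdjoinRoot.root _) with ht
  have htN : t ^ N = G ^ (d * a') * U := by
    rw [ht, ← map_pow, root_pow, ← AdjoinRoot.algebraMap_eq, AlgHom.commutes, map_mul, map_pow]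
  have hUu : IsUnit U := hu.map _
  have htn : t ∈ nonZeroDivisors C := by
    have : t ^ N ∈ nonZeroDivisors C := htN ▸ mul_mem (pow_mem hGn _) hUu.mem_nonZeroDivisors
    rw [← mul_pow_sub_one hN0] at this
    exact (mul_mem_nonZeroDivisors.mp this).1
  obtain ⟨v, hv, hvd⟩ := exists_div hC hGn (t ^ n) a' hd U (by
    rw [← pow_mul, mul_comm n d, hN, htN, ← pow_mul, mul_comm a' d])
  have hvu : IsUnit v := by rw [← isUnit_pow_iff hd, hvd]; exact hUu
  obtain ⟨w, hw, hwn⟩ := exists_div hC hGn (t ^ c * G ^ q) m hn (v ^ c * G) (by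
    calc (t ^ c * G ^ q) ^ n = (t ^ n) ^ c * G ^ (q * n) := by ring
      _ = v ^ c * G ^ (c * a' + q * n) := by rw [hv]; ring
      _ = (G ^ m) ^ n * (v ^ c * G) := by rw [hexp]; ring)
  obtain ⟨ui, hui⟩ := hu.exists_right_inv
  let φ' : KE' B d u →ₐ[B] C := AdjoinRoot.liftAlgHom _ (Algebra.ofId B C) v (by
    show eval₂ (algebraMap B C) v _ = 0
    rw [eval₂_sub, eval₂_X_pow, eval₂_C, hvd, hUdef, sub_self])
  have hφv : φ' (AdjoinRoot.root _) = v := AdjoinRoot.liftAlgHom_root _ _ _ _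
  have hφg : φ' (kpar d u g c) = v ^ c * G := by
    rw [map_mul, map_pow, hφv, ← AdjoinRoot.algebraMap_eq, AlgHom.commutes]
  letI : Algebra (KE' B d u) C := φ'.toRingHom.toAlgebra
  have : IsScalarTower B (KE' B d u) C := IsScalarTower.of_algebraMap_eq fun b => (φ'.commutes b).symm
  let φ0 : KE d n u g c →ₐ[KE' B d u] C := (AdjoinRoot.liftAlgHom _ (Algebra.ofId (KE' B d u) C) w (by
    show eval₂ (algebraMap (KE' B d u) C) w _ = 0
    rw [eval₂_sub, eval₂_X_pow, eval₂_C, hwn, show algebraMap (KE' B d u) C (kpar d u g c) = v ^ c * G from hφg,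
      sub_self]))
  let φ : KE d n u g c →ₐ[B] C := φ0.restrictScalars B
  refine ⟨φ, ?_⟩
  have hφw : φ (AdjoinRoot.root _) = w := show φ0 _ = w from AdjoinRoot.liftAlgHom_root _ _ _ (by
    show eval₂ (algebraMap (KE' B d u) C) w _ = 0
    rw [eval₂_sub, eval₂_X_pow, eval₂_C, hwn, show algebraMap (KE' B d u) C (kpar d u g c) = v ^ c * G from hφg,
      sub_self])
  have hφof : ∀ e, φ (AdjoinRoot.of _ e) = φ' e := fun e => by
    rw [← AdjoinRoot.algebraMap_eq]
    exact φ0.commutes e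
  -- the preimage of `t`
  let vinv : KE' B d u := AdjoinRoot.root _ ^ (d - 1) * AdjoinRoot.of _ ui
  have hvinv : v * φ' vinv = 1 := by
    rw [map_mul, map_pow, hφv, ← mul_assoc, mul_pow_sub_one hd, hvd, ← AdjoinRoot.algebraMap_eq, AlgHom.commutes,
      hUdef, ← map_mul, hui, map_one]
  let τ : KE d n u g c := AdjoinRoot.root _ ^ a' * AdjoinRoot.of _ (AdjoinRoot.root _ ^ q * vinv ^ m)
  have hτ : φ τ = t := by
    rw [map_mul, map_pow, hφw, hφof, map_mul, map_pow, map_pow, hφv]
    have hreg : G ^ (m * a' + a' * q + a' * m) * t ^ (n * m) ∈ nonZeroDivisors C :=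
      mul_mem (pow_mem hGn _) (pow_mem htn _)
    refine (mul_cancel_right_mem_nonZeroDivisors hreg).mp ?_
    calc w ^ a' * (v ^ q * φ' vinv ^ m) * (G ^ (m * a' + a' * q + a' * m) * t ^ (n * m))
        = (G ^ m * w) ^ a' * ((G ^ a' * v) ^ q * (φ' vinv ^ m * G ^ (a' * m))) * t ^ (n * m) := by ring
      _ = (t ^ c * G ^ q) ^ a' * ((t ^ n) ^ q * (φ' vinv ^ m * G ^ (a' * m))) * (G ^ a' * v) ^ m := by
          rw [← hw, ← hv, ← pow_mul t n m]
      _ = t ^ (c * a' + q * n) * G ^ (q * a' + a' * m + a' * m) * (v * φ' vinv) ^ m := by ring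
      _ = t * (G ^ (m * a' + a' * q + a' * m) * t ^ (n * m)) := by rw [hexp, hvinv, one_pow]; ring
  let σ : AdjoinRoot ((X : B[X]) ^ N - Polynomial.C (g ^ (d * a') * u)) → KE d n u g c :=
    fun p => aeval τ (AdjoinRoot.modByMonicHom (monic_X_pow_sub_C _ hN0) p)
  have hσ : ∀ p, φ (σ p) = ψ p := fun p => by
    show φ (aeval τ _) = ψ p
    rw [← aeval_algHom_apply, hτ, ht, aeval_algHom_apply, AdjoinRoot.aeval_eq,
      AdjoinRoot.mk_leftInverse (monic_X_pow_sub_C _ hN0) p]
  have hinj : Function.Injective φ := by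
    have := (monic_X_pow_sub_C u hd).free_adjoinRoot
    have := (monic_X_pow_sub_C u hd).finite_adjoinRoot
    have := (monic_X_pow_sub_C (kpar d u g c) hn).free_adjoinRoot
    have := (monic_X_pow_sub_C (kpar d u g c) hn).finite_adjoinRoot
    have : Module.Free B (KE d n u g c) := Module.Free.trans (S := KE' B d u)
    have : Module.Finite B (KE d n u g c) := Module.Finite.trans (KE' B d u) _
    have : Nontrivial (KE' B d u) := AdjoinRoot.nontrivial _ (by rw [degree_X_pow_sub_C (Nat.pos_of_ne_zero hd)]; exact_mod_cast hd)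
    have hrE : Module.finrank B (KE d n u g c) = N := by
      rw [← Module.finrank_mul_finrank B (KE' B d u) (KE d n u g c), finrank_adjoinRoot hd, finrank_adjoinRoot hn, hN]
    have hle : N ≤ Module.finrank B (LinearMap.range φ.toLinearMap) := by
      rw [← finrank_adjoinRoot hN0 (g ^ (d * a') * u)]
      have := (monic_X_pow_sub_C (g ^ (d * a') * u) hN0).free_adjoinRoot
      exact LinearMap.finrank_le_finrank_of_injective
        (f := ψ.toLinearMap.codRestrict (LinearMap.range φ.toLinearMap) fun p => ⟨σ p, hσ p⟩)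
        (fun a b hab => hψ (congrArg Subtype.val hab))
    have hrn := Submodule.finrank_quotient_add_finrank (LinearMap.ker φ.toLinearMap)
    rw [φ.toLinearMap.quotKerEquivRange.finrank_eq, hrE] at hrn
    have h0 : Module.finrank B (LinearMap.ker φ.toLinearMap) = 0 := by omega
    rw [injective_iff_map_eq_zero]
    intro e he
    have htor := Module.finrank_eq_zero_iff_isTorsion.mp h0
    obtain ⟨⟨b, hb⟩, hbe⟩ := @htor ⟨e, he⟩
    have : b • e = 0 := congrArg Subtype.val hbe
    exact (smul_eq_zero.mp this).resolve_left (nonZeroDivisors.ne_zero hb)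
  refine ⟨hinj, ?_⟩
  have hint : ∀ x : C, IsIntegral B x := fun x => IsIntegral.of_finite B x
  refine surjective_of_normal φ hinj (isNormalRing_of_isRegularRing _) hint g (hgC g hg) fun x => ?_
  obtain ⟨i, p, hp⟩ := hsurj x
  exact ⟨i, σ p, (hσ p).trans hp⟩

end Groth.Calg6.CycCov
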