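import Groth.Agent.Calg6.CycCov.Kummer2
import Groth.Agent.Flatmor4.SmoothDivisor
import Groth.Agent.AlgSpBasic.SmoothSourceRing
import Mathlib.RingTheory.Kaehler.Polynomial
import Mathlib.LinearAlgebra.Basis.SMul

/-!
Étale coordinates on `B[v,w]/(v^d − u, w^n − v^c g)` when `g` is a coordinate of an étale chart of `B`.
-/

universe u

set_option autoImplicit false
set_option linter.style.haveILetI false

open TensorProduct KaehlerDifferential

namespace Groth.Calg6.CycCov

/-- Differential of a multiple of a function vanishing at the point. -/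
theorem one_tmul_D_mul {k B K : Type u} [CommRing k] [CommRing B] [CommRing K] [Algebra k B] [Algebra B K]
    (e G : B) (hG : algebraMap B K G = 0) :
    (1 : K) ⊗ₜ[B] D k B (e * G) = algebraMap B K e • ((1 : K) ⊗ₜ[B] D k B G) := by
  rw [Derivation.leibniz, tmul_add, tmul_smul, tmul_smul, ← algebraMap_smul K G, hG, zero_smul, add_zero,
    algebraMap_smul]

/-- A pushout of a formally étale map along an endomorphism of the base, as a universal property. -/
theorem formallyEtale_of_pushout {R L M : Type u} [CommRing R] [CommRing L] [CommRing M] [Algebra R L] [Algebra R M]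
    [Algebra.FormallyEtale R L] (τ : R →+* R) (ρ : L →+* M)
    (hρ : ∀ x, ρ (algebraMap R L x) = algebraMap R M (τ x))
    (hext : ∀ (A : Type u) [CommRing A] (f₁ f₂ : M →+* A), f₁.comp ρ = f₂.comp ρ →
      f₁.comp (algebraMap R M) = f₂.comp (algebraMap R M) → f₁ = f₂)
    (hlift : ∀ (A : Type u) [CommRing A] (aA : R →+* A) (g : L →+* A), g.comp (algebraMap R L) = aA.comp τ →
      ∃ F : M →+* A, F.comp ρ = g ∧ F.comp (algebraMap R M) = aA) :
    Algebra.FormallyEtale R M := by
  rw [Algebra.FormallyEtale.iff_comp_bijective]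
  intro A _ iA I hI
  let aA : R →+* A := algebraMap R A
  refine ⟨fun f₁ f₂ h => ?_, fun f => ?_⟩
  · have c1 : ∀ x, f₁ (algebraMap R M x) = aA x := f₁.commutes
    have c2 : ∀ x, f₂ (algebraMap R M x) = aA x := f₂.commutes
    have hq : ∀ y, Ideal.Quotient.mk I (f₁ y) = Ideal.Quotient.mk I (f₂ y) := fun y => AlgHom.congr_fun h y
    refine AlgHom.coe_ringHom_injective (hext A _ _ ?_ (RingHom.ext fun x => (c1 x).trans (c2 x).symm))
    letI : Algebra R A := (aA.comp τ).toAlgebra
    let g₁ : L →ₐ[R] A := { (RingHomClass.toRingHom f₁).comp ρ with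
      commutes' := fun x => (congrArg f₁ (hρ x)).trans (c1 (τ x)) }
    let g₂ : L →ₐ[R] A := { (RingHomClass.toRingHom f₂).comp ρ with
      commutes' := fun x => (congrArg f₂ (hρ x)).trans (c2 (τ x)) }
    have hg : g₁ = g₂ := (Algebra.FormallyEtale.comp_bijective R L (B := A) I hI).1
      (AlgHom.ext fun x => hq (ρ x))
    exact RingHom.ext fun x => AlgHom.congr_fun hg x
  · have cf : ∀ x, f (algebraMap R M x) = Ideal.Quotient.mk I (aA x) := f.commutes
    obtain ⟨g, hg1, hg2⟩ : ∃ g : L →+* A, g.comp (algebraMap R L) = aA.comp τ ∧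
        (Ideal.Quotient.mk I).comp g = (RingHomClass.toRingHom f).comp ρ := by
      letI : Algebra R A := (aA.comp τ).toAlgebra
      let q₀ : L →ₐ[R] A ⧸ I := { (RingHomClass.toRingHom f).comp ρ with
        commutes' := fun x => (congrArg f (hρ x)).trans (cf (τ x)) }
      obtain ⟨g, hg⟩ := (Algebra.FormallyEtale.comp_bijective R L (B := A) I hI).2 q₀
      exact ⟨g.toRingHom, RingHom.ext fun x => g.commutes x, RingHom.ext fun x => AlgHom.congr_fun hg x⟩
    obtain ⟨F, hF1, hF2⟩ := hlift A aA g hg1
    refine ⟨{ F with commutes' := RingHom.congr_fun hF2 }, AlgHom.coe_ringHom_injective (hext _ _ _ ?_ ?_)⟩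
    · exact RingHom.ext fun x => (congrArg (Ideal.Quotient.mk I) (RingHom.congr_fun hF1 x)).trans
        (RingHom.congr_fun hg2 x)
    · exact RingHom.ext fun x => (congrArg (Ideal.Quotient.mk I) (RingHom.congr_fun hF2 x)).trans (cf x).symm

/-- A Kummer chart has étale coordinates near the branch locus: `g` is replaced by the root `w`. -/
theorem exists_etale_chart {k : Type u} [Field k] {σ : Type u} [Finite σ] {B : Type u} [CommRing B] [Nontrivial B]
    (φ : MvPolynomial σ k →+* B) (hφ : φ.Etale) (i0 : σ) {d n c : ℕ} (hd : d ≠ 0) (hdu : IsUnit (d : B))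
    {u g : B} (hu : IsUnit u) (hg : φ (MvPolynomial.X i0) = g) (q : Ideal (KE d n u g c)) [q.IsPrime]
    (hq : algebraMap B (KE d n u g c) g ∈ q) :
    ∃ t ∉ q, ∀ (M : Type u) [CommRing M] [Algebra (KE d n u g c) M] [IsLocalization.Away t M],
      ∃ ψ : MvPolynomial σ k →+* M, ψ.Etale ∧
        (∀ a, ψ (MvPolynomial.C a) = algebraMap (KE d n u g c) M (algebraMap B (KE d n u g c) (φ (MvPolynomial.C a)))) ∧
        ψ (MvPolynomial.X i0) = algebraMap (KE d n u g c) M (AdjoinRoot.root _) ∧
        ∀ i, i ≠ i0 → ψ (MvPolynomial.X i) = algebraMap (KE d n u g c) M (algebraMap B (KE d n u g c) (φ (MvPolynomial.X i))) := by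
  classical
  let P := MvPolynomial σ k
  let B' := KE' B d u
  letI : Algebra P B := φ.toAlgebra
  letI : Algebra k B := (φ.comp MvPolynomial.C).toAlgebra
  haveI : IsScalarTower k P B := .of_algebraMap_eq fun _ => rfl
  haveI : Algebra.Etale P B := hφ
  haveI : Algebra.Etale B B' := by
    have := (Groth.EtaleAlgebra.Abhy.etale_adjoinRoot_X_pow_sub_C hd hdu hu.unit).2
    rwa [hu.unit_spec] at this
  haveI : Algebra.Etale P B' := Algebra.Etale.comp P B B'
  haveI : Algebra.FormallySmooth k B' := Algebra.FormallySmooth.comp k P B'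
  haveI : Algebra.FinitePresentation k B' := Algebra.FinitePresentation.trans k P B'
  let p : Ideal B' := q.comap (AdjoinRoot.of _)
  have hgp : algebraMap B B' g ∈ p := hq
  -- a basis of differentials of `B'`
  let bP : Module.Basis σ B' Ω[B'⁄k] :=
    ((mvPolynomialBasis k σ).baseChange B').map (tensorKaehlerEquivOfFormallyEtale k P B')
  have hbP : ∀ i, bP i = D k B' (algebraMap B B' (φ (MvPolynomial.X i))) := fun i => by
    simp only [bP, Module.Basis.map_apply, Module.Basis.baseChange_apply, mvPolynomialBasis_apply,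
      tensorKaehlerEquivOfFormallyEtale_apply]
    exact ((mapBaseChange_tmul k P B' 1 _).trans (one_smul B' _)).trans (map_D k k P B' _)
  haveI : Module.Finite B' Ω[B'⁄k] := Module.Finite.of_basis bP
  haveI : Module.Projective B' Ω[B'⁄k] := Module.Projective.of_basis bP
  let a : σ → B' := fun i => if i = i0 then kpar d u g c else algebraMap B B' (φ (MvPolynomial.X i))
  have hv : IsUnit (AdjoinRoot.root ((Polynomial.X : Polynomial B) ^ d - Polynomial.C u)) := by
    rw [← isUnit_pow_iff hd, root_pow]; exact hu.map _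
  let ε : B' := AdjoinRoot.root _ ^ c
  have hε : IsUnit ε := hv.pow c
  have hgk : algebraMap B' p.ResidueField (algebraMap B B' g) = 0 :=
    Ideal.algebraMap_residueField_eq_zero.mpr hgp
  let w : σ → (p.ResidueField)ˣ := fun i => if i = i0 then (hε.map (algebraMap B' p.ResidueField)).unit else 1
  let b : Module.Basis σ p.ResidueField (p.ResidueField ⊗[B'] Ω[B'⁄k]) :=
    (bP.baseChange p.ResidueField).unitsSMul w
  have hb : ∀ i, b i = (1 : p.ResidueField) ⊗ₜ D k B' (a i) := fun i => by
    simp only [b, Module.Basis.unitsSMul_apply, Module.Basis.baseChange_apply, hbP]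
    by_cases hi : i = i0
    · subst hi
      simp only [a, w, if_true, hg]
      exact (one_tmul_D_mul ε _ hgk).symm
    · simp only [a, w, if_neg hi, one_smul]
  obtain ⟨t, htp, hbij⟩ := Groth.Flatmor4.exists_away_bijective p (fun i => D k B' (a i)) b hb
  refine ⟨AdjoinRoot.of _ t, htp, fun M _ _ _ => ?_⟩
  -- the étale chart of the localised base
  obtain ⟨L, _, _, _⟩ : ∃ (L : Type u) (_ : CommRing L) (_ : Algebra B' L), IsLocalization.Away t L :=
    ⟨Localization.Away t, inferInstance, inferInstance, inferInstance⟩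
  letI : Algebra k L := ((algebraMap B' L).comp (algebraMap k B')).toAlgebra
  haveI : IsScalarTower k B' L := .of_algebraMap_eq fun _ => rfl
  let l₁ : (σ →₀ B') →ₗ[B'] (σ →₀ L) := Finsupp.mapRange.linearMap (Algebra.linearMap B' L)
  let l₂ : Ω[B'⁄k] →ₗ[B'] Ω[L⁄k] := KaehlerDifferential.map k k B' L
  rw [← IsLocalizedModule.map_bijective_iff_localizedModuleMap_bijective l₁ l₂] at hbij
  let eL : (σ →₀ L) →ₗ[L] Ω[L⁄k] :=
    IsLocalizedModule.mapExtendScalars (Submonoid.powers t) l₁ l₂ L
      (Finsupp.linearCombination B' fun i => D k B' (a i))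
  let β : Module.Basis σ L Ω[L⁄k] := .ofRepr (LinearEquiv.ofBijective eL hbij).symm
  have hβ : ∀ i, β i = D k L (algebraMap B' L (a i)) := fun i => by
    simp [β, eL, l₁, l₂, IsLocalizedModule.map_linearCombination]
  haveI : Algebra.FinitePresentation B' L := IsLocalization.Away.finitePresentation t
  haveI : Algebra.FinitePresentation k L := .trans k B' L
  haveI : Algebra.FormallySmooth B' L := Algebra.FormallySmooth.of_isLocalization (Submonoid.powers t)
  haveI : Algebra.FormallySmooth k L := Algebra.FormallySmooth.comp k B' L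
  let φQ : P →ₐ[k] L := MvPolynomial.aeval fun i => algebraMap B' L (a i)
  have hφX : ∀ i, φQ (MvPolynomial.X i) = algebraMap B' L (a i) := fun i => MvPolynomial.aeval_X _ i
  have hφC : ∀ x, φQ (MvPolynomial.C x) = algebraMap B' L (algebraMap B B' (φ (MvPolynomial.C x))) := fun x =>
    ((MvPolynomial.algHom_C φQ x).trans (IsScalarTower.algebraMap_apply k B' L x)).trans rfl
  have hFE : @Algebra.FormallyEtale P L _ _ φQ.toRingHom.toAlgebra := by
    letI := φQ.toRingHom.toAlgebra
    haveI : IsScalarTower k P L := .of_algebraMap_eq' φQ.comp_algebraMap.symm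
    refine Groth.Flatmor4.formallyEtale_of_mapBaseChange_bijective
      (Groth.AlgSpBasic.SourceDescent.mapBaseChange_bijective_of_basis β fun i => ?_)
    rw [hβ]
    exact congrArg _ (hφX i).symm
  -- the chart on `M`
  let alg : KE d n u g c →+* M := algebraMap _ M
  have hTu : IsUnit ((alg.comp (AdjoinRoot.of _)) t) := IsLocalization.Away.algebraMap_isUnit (AdjoinRoot.of _ t)
  let ρ : L →+* M := IsLocalization.Away.lift t hTu
  have hρ : ∀ e, ρ (algebraMap B' L e) = alg (AdjoinRoot.of _ e) := fun e => IsLocalization.Away.lift_eq t hTu e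
  let ψ : P →+* M := MvPolynomial.eval₂Hom ((alg.comp (algebraMap B _)).comp (φ.comp MvPolynomial.C))
    fun i => if i = i0 then alg (AdjoinRoot.root _) else alg (algebraMap B _ (φ (MvPolynomial.X i)))
  have hψC : ∀ a, ψ (MvPolynomial.C a) = alg (algebraMap B _ (φ (MvPolynomial.C a))) :=
    fun a => MvPolynomial.eval₂Hom_C _ _ a
  have hψ0 : ψ (MvPolynomial.X i0) = alg (AdjoinRoot.root _) :=
    (MvPolynomial.eval₂Hom_X' _ _ i0).trans (if_pos rfl)
  have hψi : ∀ i, i ≠ i0 → ψ (MvPolynomial.X i) = alg (algebraMap B _ (φ (MvPolynomial.X i))) :=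
    fun i hi => (MvPolynomial.eval₂Hom_X' _ _ i).trans (if_neg hi)
  refine ⟨ψ, ?_, hψC, hψ0, hψi⟩
  -- the endomorphism raising `X i0` to the power `n`
  let τ : P →ₐ[k] P := MvPolynomial.aeval fun i => if i = i0 then MvPolynomial.X i0 ^ n else MvPolynomial.X i
  have hτX : ∀ i, τ (MvPolynomial.X i) = if i = i0 then MvPolynomial.X i0 ^ n else MvPolynomial.X i :=
    fun i => MvPolynomial.aeval_X _ i
  have hτC : ∀ x, τ (MvPolynomial.C x) = MvPolynomial.C x := fun x => MvPolynomial.algHom_C τ x
  have hτ : ρ.comp φQ.toRingHom = ψ.comp τ.toRingHom := by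
    refine MvPolynomial.ringHom_ext (fun x => ?_) fun i => ?_
    · show ρ (φQ (MvPolynomial.C x)) = ψ (τ (MvPolynomial.C x))
      rw [hφC, hρ, hτC]
      exact (hψC x).symm
    · show ρ (φQ (MvPolynomial.X i)) = ψ (τ (MvPolynomial.X i))
      rw [hφX, hρ, hτX]
      simp only [a]
      by_cases hi : i = i0
      · subst hi
        simp only [if_true, map_pow, hψ0]
        rw [← map_pow, root_pow]
      · simp only [if_neg hi, hψi i hi]
        rfl
  let algP : Algebra P M := ψ.toAlgebra
  show Algebra.Etale P M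
  haveI : IsScalarTower k B' (KE d n u g c) := .of_algebraMap_eq fun _ => rfl
  haveI : Algebra.FinitePresentation B' (KE d n u g c) :=
    Algebra.FinitePresentation.quotient (Submodule.fg_span_singleton _)
  haveI : Algebra.FinitePresentation k (KE d n u g c) := .trans k B' (KE d n u g c)
  letI : Algebra k M := (alg.comp (algebraMap k (KE d n u g c))).toAlgebra
  haveI : IsScalarTower k (KE d n u g c) M := .of_algebraMap_eq fun _ => rfl
  haveI : IsScalarTower k P M := .of_algebraMap_eq fun x => (hψC x).symm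
  haveI : Algebra.FinitePresentation (KE d n u g c) M := IsLocalization.Away.finitePresentation (AdjoinRoot.of _ t)
  haveI : Algebra.FinitePresentation k M := .trans k (KE d n u g c) M
  haveI : Algebra.FinitePresentation P M :=
    Algebra.FinitePresentation.of_restrict_scalars_finitePresentation k P M
  refine ⟨?_, inferInstance⟩
  letI := φQ.toRingHom.toAlgebra
  haveI : Algebra.FormallyEtale P L := hFE
  refine formallyEtale_of_pushout τ.toRingHom ρ (fun x => RingHom.congr_fun hτ x)
    (fun A _ f₁ f₂ h₁ h₂ => ?_) fun A _ aA gL hg0 => ?_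
  · refine IsLocalization.ringHom_ext (R := KE d n u g c) (Submonoid.powers (AdjoinRoot.of _ t))
      (Ideal.Quotient.ringHom_ext (Polynomial.ringHom_ext (fun e => ?_) ?_))
    · show f₁ (alg (AdjoinRoot.of _ e)) = f₂ (alg (AdjoinRoot.of _ e))
      rw [← hρ]
      exact RingHom.congr_fun h₁ _
    · show f₁ (alg (AdjoinRoot.root _)) = f₂ (alg (AdjoinRoot.root _))
      rw [← hψ0]
      exact RingHom.congr_fun h₂ _
  · have hg' : ∀ x, gL (φQ x) = aA (τ x) := RingHom.congr_fun hg0
    have hroot : Polynomial.eval₂ (gL.comp (algebraMap B' L)) (aA (MvPolynomial.X i0))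
        ((Polynomial.X : Polynomial B') ^ n - Polynomial.C (kpar d u g c)) = 0 := by
      rw [Polynomial.eval₂_sub, Polynomial.eval₂_X_pow, Polynomial.eval₂_C, sub_eq_zero]
      have h0 := hg' (MvPolynomial.X i0)
      rw [hφX, hτX, if_pos rfl, map_pow] at h0
      simp only [a, if_true] at h0
      exact h0.symm
    let F₀ : KE d n u g c →+* A := AdjoinRoot.lift (gL.comp (algebraMap B' L)) (aA (MvPolynomial.X i0)) hroot
    have hF₀ : ∀ e, F₀ (AdjoinRoot.of _ e) = gL (algebraMap B' L e) := fun e => AdjoinRoot.lift_of hroot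
    have hF₀r : F₀ (AdjoinRoot.root _) = aA (MvPolynomial.X i0) := AdjoinRoot.lift_root hroot
    have hFu : IsUnit (F₀ (AdjoinRoot.of _ t)) := by
      rw [hF₀]; exact (IsLocalization.Away.algebraMap_isUnit t).map gL
    let F : M →+* A := IsLocalization.Away.lift (AdjoinRoot.of _ t) hFu
    have hF : ∀ z, F (alg z) = F₀ z := fun z => IsLocalization.Away.lift_eq (AdjoinRoot.of _ t) hFu z
    refine ⟨F, IsLocalization.ringHom_ext (Submonoid.powers t) (RingHom.ext fun e => ?_),
      MvPolynomial.ringHom_ext (fun x => ?_) fun i => ?_⟩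
    · show F (ρ (algebraMap B' L e)) = gL (algebraMap B' L e)
      rw [hρ, hF, hF₀]
    · show F (ψ (MvPolynomial.C x)) = aA (MvPolynomial.C x)
      rw [hψC, hF]
      refine (hF₀ _).trans ?_
      have h0 := hg' (MvPolynomial.C x)
      rw [hφC, hτC] at h0
      exact h0
    · show F (ψ (MvPolynomial.X i)) = aA (MvPolynomial.X i)
      by_cases hi : i = i0
      · subst hi; rw [hψ0, hF, hF₀r]
      · rw [hψi i hi, hF]
        refine (hF₀ _).trans ?_
        have h0 := hg' (MvPolynomial.X i)
        rw [hφX, hτX, if_neg hi] at h0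
        simp only [a, if_neg hi] at h0
        exact h0

end Groth.Calg6.CycCov
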