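import Groth.Agent.Calg6.CycCov.Cover
import Groth.Agent.Calg6.CycCov.Chart
import Groth.Agent.Calg6.CycCov.Kummer2

/-!
The normalised cyclic cover near a point through which at most one branch component passes.
-/

universe u

set_option autoImplicit false

open CategoryTheory AlgebraicGeometry Opposite TopologicalSpace Groth.PicAux Polynomial

namespace Groth.Calg6.CycCov

/-- Exponents for the Kummer chart. -/
theorem exists_exponents {n a : ℕ} (hn : n ≠ 0) (h : Nat.Coprime a n) :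
    ∃ c q m : ℕ, c * a + q * n = 1 + m * n := by
  by_cases h1 : n = 1
  · exact ⟨0, 1, 0, by simp [h1]⟩
  · obtain ⟨c, -, hc⟩ := Nat.exists_mul_mod_eq_one_of_coprime h (by omega)
    refine ⟨c, 0, a * c / n, ?_⟩
    have := Nat.mod_add_div (a * c) n
    rw [hc, mul_comm n] at this
    rw [zero_mul, add_zero, mul_comm c a, this]

/-- Ideals agree on an affine open when they agree on a covering by affine opens. -/
theorem ideal_eq_of_cover {X : Scheme.{u}} {I J : X.IdealSheafData} (V : X.affineOpens) {ι : Type*}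
    (U : ι → X.affineOpens) (hU : V.1 ≤ ⨆ i, (U i).1) (H : ∀ i, I.ideal (U i) = J.ideal (U i)) :
    I.ideal V = J.ideal V := by
  suffices key : ∀ A B : X.IdealSheafData, (∀ i, A.ideal (U i) ≤ B.ideal (U i)) → A.ideal V ≤ B.ideal V from
    le_antisymm (key I J fun i => (H i).le) (key J I fun i => (H i).ge)
  intro A B hAB
  have : ∀ x : V.1, ∃ (i : ι) (r : Γ(X, V.1)) (rU : Γ(X, U i)),
      X.basicOpen r = X.basicOpen rU ∧ x.1 ∈ X.basicOpen r := by
    intro ⟨x, hxV⟩
    obtain ⟨i, hi⟩ := TopologicalSpace.Opens.mem_iSup.mp (hU hxV)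
    exact ⟨i, exists_basicOpen_le_affine_inter V.2 (U i).2 _ ⟨hxV, hi⟩⟩
  choose i r rU e hxr using this
  have : Ideal.span (Set.range r) = ⊤ := by
    rw [← V.2.self_le_iSup_basicOpen_iff]
    exact fun x hxV => TopologicalSpace.Opens.mem_iSup.mpr ⟨⟨_, _, rfl⟩, hxr ⟨x, hxV⟩⟩
  have inst := V.2.isLocalization_basicOpen
  refine Submodule.le_of_isLocalized_span _ this (fun i => Γ(X, X.basicOpen i.1))
    (fun i => Algebra.linearMap Γ(X, V.1) Γ(X, X.basicOpen i.1)) ?_
  rintro ⟨_, j, rfl⟩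
  simp only [← Submodule.restrictScalars_localized' Γ(X, X.basicOpen (r j)),
    Ideal.localized'_eq_map, RingHom.algebraMap_toAlgebra]
  erw [A.map_ideal (U := ⟨_, V.2.basicOpen _⟩) (X.basicOpen_le (r j)),
    B.map_ideal (U := ⟨_, V.2.basicOpen _⟩) (X.basicOpen_le (r j))]
  delta AlgebraicGeometry.Scheme.algebra_section_section_basicOpen
  rw! [e]
  rw [← A.map_ideal (V := (U _)) (X.basicOpen_le _), ← B.map_ideal (V := (U _)) (X.basicOpen_le _)]
  exact Ideal.map_mono (f := (X.presheaf.map (homOfLE (X.basicOpen_le (rU j))).op).hom) (hAB (i j))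

variable {X Y : Scheme.{u}} {L : X.Modules} {N : ℕ} {s : Coh.structureModule X ⟶ CohB1.tensorPow L N}
  {π : Y ⟶ X} (R : _root_.CycCov.Root L N s π)

/-- The chart becomes bijective after inverting `g` if the equation does not vanish there. -/
theorem chart_generic {k : Type u} [Field k] (p : X ⟶ Spec (CommRingCat.of k)) [Smooth p] [IsIntegral X]
    (hN : N ≠ 0) (hNk : (N : k) ≠ 0) (hL : PicF.IsInvertible L) (hR : _root_.CycCov.IsCover R)
    (U : X.affineOpens) [Nonempty U.1] {e : Γ(L, U.1)} (he : Gen L U.1 e) {f : Γ(X, U.1)}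
    (hf : SecTwist.val s U.1 = f • _root_.CycCov.lpow L U.1 e N) {g : Γ(X, U.1)} (hg : g ≠ 0)
    (hfg : IsUnit (resX X (X.basicOpen_le g) f)) :
    Function.Injective (chartU R U he hf) ∧
      ∀ c, ∃ (i : ℕ) (a : _), chartU R U he hf a = (π.app U.1).hom g ^ i * c := by
  let V : X.affineOpens := ⟨X.basicOpen g, U.2.basicOpen g⟩
  have hle : V.1 ≤ U.1 := X.basicOpen_le g
  have : Nonempty V.1 := by
    by_contra h
    refine hg ((basicOpen_eq_bot_iff g).mp ?_)
    ext x
    exact ⟨fun hx => (h ⟨⟨x, hx⟩⟩).elim, fun hx => hx.elim⟩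
  have hb := chart_bijective_of_isUnit R V (he.res hle) (equation_res hle hf) p hN hNk hL hR hfg
  refine ⟨?_, fun c => ?_⟩
  · rw [injective_iff_map_eq_zero]
    intro a ha
    have h1 := resY_chart R U he hf V hle a
    rw [ha, map_zero] at h1
    exact (rootRes_injective hle hN f (map_injective_of_isIntegral X (homOfLE hle))).eq_iff.mp
      ((hb.1 (h1.symm.trans (map_zero _).symm)).trans (map_zero _).symm)
  obtain ⟨y, hy⟩ := hb.2 (resY hle c)
  induction y using AdjoinRoot.induction_on with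
  | ih P =>
    letI : Algebra Γ(X, U.1) Γ(X, V.1) := (resX X hle).toAlgebra
    have : IsLocalization.Away g Γ(X, V.1) := U.2.isLocalization_of_eq_basicOpen g (homOfLE hle) rfl
    obtain ⟨m, Q, hQ⟩ := exists_pow_mul_poly g P
    refine ⟨m, AdjoinRoot.mk _ Q, resY_injective R U hN hR hL hg ?_⟩
    show resY hle (chartU R U he hf (AdjoinRoot.mk _ Q)) = resY hle ((π.app U.1).hom g ^ m * c)
    rw [resY_chart R U he hf V hle, rootRes, AdjoinRoot.map, AdjoinRoot.lift_mk, ← eval₂_map,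
      ← AdjoinRoot.algebraMap_eq, ← aeval_def, AdjoinRoot.aeval_eq]
    have hQ' : Q.map (resX X hle) = C (resX X hle g ^ m) * P := hQ
    rw [hQ', map_mul, map_mul, map_pow, map_pow, AdjoinRoot.mk_C, map_mul, map_pow, chartU_of,
      ← resY_app hle, ← hy, map_pow]

/-- Near a point through which at most one component of `S` passes the cover is a regular Kummer chart. -/
theorem exists_kummer {k : Type u} [Field k] (p : X ⟶ Spec (CommRingCat.of k)) [Smooth p] [IsIntegral X]
    (hN : N ≠ 0) (hNk : (N : k) ≠ 0) (hL : PicF.IsInvertible L) {r : ℕ} (D : Fin r → X.IdealSheafData)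
    (α : Fin r → ℕ) (hD : LogNCD.IsNCD D p)
    (hs : _root_.CycCov.IsZeroDiv (CohB1.tensorPow L N) s (_root_.CycCov.divIdeal D α))
    (hR : _root_.CycCov.IsCover R) (S : Set (Fin r)) (hS : ∀ j, 0 < α j → j ∈ S) {x : X} {O : X.Opens}
    (hx : x ∈ O) (hone : ∀ j ∈ S, ∀ j' ∈ S, x ∈ (D j).support → x ∈ (D j').support → j = j') :
    ∃ (U : X.affineOpens) (g : Γ(X, U.1)) (n : ℕ),
      x ∈ U.1 ∧ U.1 ≤ O ∧ IsRegularRing Γ(Y, π ⁻¹ᵁ U.1) ∧
      ((Ideal.span {g}).map (π.app U.1).hom).radical ^ n = (Ideal.span {g}).map (π.app U.1).hom ∧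
      (∀ j ∈ S, x ∈ (D j).support → (D j).ideal U = Ideal.span {g} ∧ n = N / Nat.gcd N (α j)) ∧
      (∀ j ∈ S, x ∉ (D j).support → (D j).ideal U = ⊤) := by
  obtain ⟨U, e, g, u, a, hxU, hUO, he, hf, hu, hg, hB, hBg, hin, hout, -⟩ :=
    exists_local_equation p hL s D α hD hs S hS hx hone
  have : Nonempty U.1 := ⟨⟨x, hxU⟩⟩
  have hdpos : 0 < Nat.gcd N a := Nat.gcd_pos_of_pos_left a (Nat.pos_of_ne_zero hN)
  obtain ⟨n, a', hcop, hNd, had⟩ := Nat.exists_coprime N a
  generalize hd : Nat.gcd N a = d at hdpos hNd had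
  have hn : n ≠ 0 := fun h => hN (by rw [hNd, h, zero_mul])
  have hnq : n = N / d := by rw [hNd, Nat.mul_div_cancel _ hdpos]
  obtain ⟨c, q, m, hexp⟩ := exists_exponents hn hcop.symm
  rw [mul_comm] at had
  subst had
  have hfg : IsUnit (resX X (X.basicOpen_le g) (g ^ (d * a') * u)) := by
    rw [map_mul, map_pow]
    exact ((RingedSpace.isUnit_res_basicOpen X.toLocallyRingedSpace.toRingedSpace g).pow _).mul (hu.map _)
  obtain ⟨hinj, hsurj⟩ := chart_generic R p hN hNk hL hR U he hf hg hfg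
  letI := (π.app U.1).hom.toAlgebra
  have : IsFinite π := hR.1
  have hV : IsAffineOpen (π ⁻¹ᵁ U.1) := U.2.preimage π
  have : Module.Finite Γ(X, U.1) Γ(Y, π ⁻¹ᵁ U.1) := IsFinite.finite_app π U.1 U.2
  let ψ : AdjoinRoot ((Polynomial.X : Γ(X, U.1)[X]) ^ N - C (g ^ (d * a') * u)) →ₐ[Γ(X, U.1)] Γ(Y, π ⁻¹ᵁ U.1) :=
    { chartU R U he hf with commutes' := fun b => chartU_of R U he hf b }
  obtain ⟨hreg, φ, hφ⟩ := exists_bijective_KE (N := N) (n := n) (a' := a') (c := c) (q := q) (m := m) hdpos.ne' hn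
    (by rw [hNd, mul_comm]) (natCast_isUnit p hNk U.1) hexp hu hg (isNormalRing_Γ hR.2.1 hV)
    (fun b hb y hy => eq_zero_of_app_mul R U hN hR hL hb hy) ψ hinj hsurj
  refine ⟨U, g, n, hxU, hUO, IsRegularRing.of_ringEquiv (RingEquiv.ofBijective φ.toRingHom hφ), ?_,
    fun j hj hxj => ?_, hout⟩
  · let eq := RingEquiv.ofBijective φ.toRingHom hφ
    have hdu : IsUnit (d : Γ(X, U.1)) :=
      isUnit_of_mul_isUnit_right (show IsUnit ((n : Γ(X, U.1)) * d) by
        rw [← Nat.cast_mul, ← hNd]; exact natCast_isUnit p hNk U.1)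
    have h := radical_pow_KE (g := g) (n := n) hdpos.ne' hn hdu hu c
    have hmap : (Ideal.span {g}).map (π.app U.1).hom =
        ((Ideal.span {g}).map (algebraMap Γ(X, U.1) (KE d n u g c))).map eq.toRingHom := by
      rw [Ideal.map_map]
      congr 1
      exact RingHom.ext fun b => (φ.commutes b).symm
    rw [hmap, ← Ideal.map_radical_of_surjective (f := eq.toRingHom) eq.surjective, ← Ideal.map_pow, h]
    rw [show RingHom.ker eq.toRingHom = ⊥ from (RingHom.injective_iff_ker_eq_bot _).mp eq.injective]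
    exact bot_le
  · obtain ⟨h1, h2⟩ := hin j hj hxj
    exact ⟨h1, by rw [h2, hd, ← hnq]⟩

end Groth.Calg6.CycCov
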