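import Groth.Agent.Calg6.CycCov.Principal
import Mathlib.AlgebraicGeometry.AffineSpace

/-!
Building strict normal crossing charts from étale coordinates on affine opens.
-/

universe u

set_option autoImplicit false

open CategoryTheory AlgebraicGeometry Opposite TopologicalSpace

namespace Groth.Calg6.CycCov

variable {X : Scheme.{u}} {k : Type u} [Field k] (f : X ⟶ Spec (CommRingCat.of k))

/-- The constants on an open. -/
noncomputable def constOn (U : X.Opens) : k →+* Γ(X, U) :=
  (f.appLE ⊤ U (fun _ _ => trivial : U ≤ f ⁻¹ᵁ ⊤)).hom.comp (Scheme.ΓSpecIso (CommRingCat.of k)).inv.hom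

theorem SpecMap_constOn {U : X.Opens} (hU : IsAffineOpen U) :
    hU.isoSpec.hom ≫ Spec.map (CommRingCat.ofHom (constOn f U)) = U.ι ≫ f := by
  rw [constOn, ← CommRingCat.hom_comp, CommRingCat.ofHom_hom, Spec.map_comp,
    ← IsAffineOpen.isoSpec_hom_fromSpec hU, Category.assoc]
  congr 1
  rw [← IsAffineOpen.SpecMap_appLE_fromSpec f (isAffineOpen_top (Spec (CommRingCat.of k))) hU
    (fun _ _ => trivial : U ≤ f ⁻¹ᵁ ⊤)]
  congr 1
  rw [IsAffineOpen.fromSpec_top, Scheme.isoSpec_Spec_inv]

theorem gammaSpec_map {R S : CommRingCat.{u}} (φ : R ⟶ S) (z : R) :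
    (Scheme.ΓSpecIso S).hom ((Spec.map φ).appTop ((Scheme.ΓSpecIso R).inv z)) = φ z :=
  congrArg (fun q => q z) (by rw [Scheme.ΓSpecIso_naturality, Iso.inv_hom_id_assoc] :
    (Scheme.ΓSpecIso R).inv ≫ (Spec.map φ).appTop ≫ (Scheme.ΓSpecIso S).hom = φ)

theorem etale_homOfVector {n : Type u} [Finite n] {V : X.Opens} (hV : IsAffineOpen V)
    (ψ : MvPolynomial n k →+* Γ(X, V)) (hψ : ψ.Etale) (hC : ∀ a, ψ (MvPolynomial.C a) = constOn f V a) :
    Etale (AffineSpace.homOfVector (V.ι ≫ f) fun i => V.topIso.inv (ψ (MvPolynomial.X i))) := by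
  let m : V.toScheme ⟶ AffineSpace n (Spec (CommRingCat.of k)) :=
    hV.isoSpec.hom ≫ Spec.map (CommRingCat.ofHom ψ) ≫ (AffineSpace.SpecIso n (CommRingCat.of k)).inv
  have : Etale (Spec.map (CommRingCat.ofHom ψ)) := (HasRingHomProperty.Spec_iff (P := @Etale)).mpr hψ
  have hm : Etale m := inferInstance
  convert hm
  refine AffineSpace.hom_ext ?_ fun i => ?_
  · rw [AffineSpace.homOfVector_over]
    simp only [m, Category.assoc, AffineSpace.SpecIso_inv_over, ← Spec.map_comp, ← CommRingCat.ofHom_comp]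
    rw [← SpecMap_constOn f hV]
    rw [show ψ.comp MvPolynomial.C = constOn f V from RingHom.ext hC]
  · rw [AffineSpace.homOfVector_appTop_coord]
    simp only [m, Scheme.Hom.comp_appTop, CommRingCat.comp_apply]
    rw [AffineSpace.SpecIso_inv_appTop_coord, IsAffineOpen.isoSpec_hom_appTop, CommRingCat.comp_apply]
    exact (congrArg V.topIso.inv (gammaSpec_map (CommRingCat.ofHom ψ) (MvPolynomial.X i))).symm

/-- Étale charts respect the constants. -/
theorem exists_etale_map_const {n : Type u} [Finite n] (W : X.Opens) (v : n → Γ(W, ⊤))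
    [Etale (AffineSpace.homOfVector (W.ι ≫ f) v)] (U : X.affineOpens) (h : U.1 ≤ W) :
    ∃ φ : MvPolynomial n k →+* Γ(X, U.1), φ.Etale ∧ (∀ a, φ (MvPolynomial.C a) = constOn f U.1 a) ∧
      ∀ i, φ (MvPolynomial.X i) = LogNCD.sectOn W h (v i) := by
  let m : U.1.toScheme ⟶ Spec (CommRingCat.of (MvPolynomial n k)) :=
    X.homOfLE h ≫ AffineSpace.homOfVector (W.ι ≫ f) v ≫ (AffineSpace.SpecIso n (CommRingCat.of k)).hom
  obtain ⟨φ', hφ'⟩ : ∃ φ' : CommRingCat.of (MvPolynomial n k) ⟶ Γ(X, U.1), U.2.isoSpec.hom ≫ Spec.map φ' = m :=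
    ⟨Spec.preimage (U.2.isoSpec.inv ≫ m), by rw [Spec.map_preimage, Iso.hom_inv_id_assoc]⟩
  have het : Etale (Spec.map φ') := by
    have : Etale m := inferInstance
    rw [show Spec.map φ' = U.2.isoSpec.inv ≫ m by rw [← hφ', Iso.inv_hom_id_assoc]]
    infer_instance
  refine ⟨φ'.hom, (HasRingHomProperty.Spec_iff (P := @Etale)).mp het, fun a => ?_, fun i => ?_⟩
  · have h1 : U.2.isoSpec.hom ≫ Spec.map (CommRingCat.ofHom MvPolynomial.C ≫ φ') =
        U.2.isoSpec.hom ≫ Spec.map (CommRingCat.ofHom (constOn f U.1)) := by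
      rw [Spec.map_comp, reassoc_of% hφ', SpecMap_constOn f U.2, ← AffineSpace.SpecIso_inv_over (CommRingCat.of k)]
      simp only [m, Category.assoc, Iso.hom_inv_id_assoc, AffineSpace.homOfVector_over, Scheme.homOfLE_ι_assoc]
    have h2 := Spec.map_injective ((cancel_epi _).mp h1)
    exact RingHom.congr_fun (congrArg CommRingCat.Hom.hom h2) a
  · have h1 := congrArg (fun q => q ≫ (AffineSpace.SpecIso n (CommRingCat.of k)).inv) hφ'
    simp only [m, Category.assoc, Iso.hom_inv_id, Category.comp_id] at h1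
    have h2 := congrArg (fun q => q.appTop (AffineSpace.coord (Spec (CommRingCat.of k)) i)) h1
    simp only [Scheme.Hom.comp_appTop, CommRingCat.comp_apply, AffineSpace.homOfVector_appTop_coord] at h2
    rw [AffineSpace.SpecIso_inv_appTop_coord, IsAffineOpen.isoSpec_hom_appTop, CommRingCat.comp_apply] at h2
    have h3 : φ'.hom (MvPolynomial.X i) = U.1.topIso.hom ((X.homOfLE h).appTop (v i)) :=
      (congrArg (fun q => q (φ'.hom (MvPolynomial.X i))) U.1.topIso.inv_hom_id).symm.trans
        (congrArg U.1.topIso.hom ((congrArg U.1.topIso.inv (gammaSpec_map φ' (MvPolynomial.X i))).symm.trans h2))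
    rw [h3, LogNCD.sectOn, Scheme.homOfLE_appTop]
    simp only [Scheme.Opens.topIso_hom, ← CommRingCat.comp_apply]
    erw [← Functor.map_comp, ← Functor.map_comp]
    rfl

/-- A coordinate of an étale chart spans a radical ideal. -/
theorem isRadical_span_coord {n : Type u} [Finite n] {C : Type u} [CommRing C] (φ : MvPolynomial n k →+* C)
    (hφ : φ.Etale) (i : n) : (Ideal.span {φ (MvPolynomial.X i)}).IsRadical := by
  algebraize [φ]
  have := isRegularRing_mvPolynomial_quot (k := k) i
  have h2 := isRegularRing_quot_of_etale (B := C) (Ideal.span {(MvPolynomial.X i : MvPolynomial n k)})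
  rw [Ideal.map_span, Set.image_singleton, RingHom.algebraMap_toAlgebra] at h2
  exact (Ideal.isRadical_iff_quotient_reduced _).mpr (Groth.Ega4Algebra1.isReduced_of_isRegularRing _)

end Groth.Calg6.CycCov
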