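import Groth.Agent.Calg6.CycCov.Chart
import Mathlib.RingTheory.MvPolynomial.Homogeneous

/-!
Principal equations for all components of a normal crossing divisor at once.
-/

universe u

set_option autoImplicit false

open CategoryTheory AlgebraicGeometry Opposite TopologicalSpace Groth.PicAux

namespace Groth.Calg6.CycCov

variable {X : Scheme.{u}} {k : Type u} [Field k] (f : X ⟶ Spec (CommRingCat.of k))

/-- The étale ring map of a chart on an affine open. -/
theorem exists_etale_map {n : Type u} [Finite n] (W : X.Opens) (v : n → Γ(W, ⊤))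
    [Etale (AffineSpace.homOfVector (W.ι ≫ f) v)] (U : X.affineOpens) (h : U.1 ≤ W) :
    ∃ φ : MvPolynomial n k →+* Γ(X, U.1), φ.Etale ∧ ∀ i, φ (MvPolynomial.X i) = LogNCD.sectOn W h (v i) := by
  have : IsAffine U.1.toScheme := U.2
  let P := MvPolynomial n k
  let h' : U.1.toScheme ⟶ Spec (CommRingCat.of P) :=
    X.homOfLE h ≫ AffineSpace.homOfVector (W.ι ≫ f) v ≫ (AffineSpace.SpecIso n (CommRingCat.of k)).hom
  have hh' : Etale h' := inferInstance
  rw [HasRingHomProperty.iff_of_isAffine (P := @Etale)] at hh'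
  let φ : P →+* Γ(X, U.1) := ((Scheme.ΓSpecIso (CommRingCat.of P)).inv ≫ h'.appTop ≫ U.1.topIso.hom).hom
  have hφ : φ.Etale := by
    have h1 : (Scheme.ΓSpecIso (CommRingCat.of P)).inv.hom.Etale :=
      RingHom.Etale.of_bijective (ConcreteCategory.bijective_of_isIso _)
    have h3 : U.1.topIso.hom.hom.Etale := RingHom.Etale.of_bijective (ConcreteCategory.bijective_of_isIso _)
    exact RingHom.Etale.stableUnderComposition _ _ h1 (RingHom.Etale.stableUnderComposition _ _ hh' h3)
  refine ⟨φ, hφ, fun i => ?_⟩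
  have h1 : (AffineSpace.SpecIso n (CommRingCat.of k)).hom.appTop
      ((Scheme.ΓSpecIso (CommRingCat.of P)).inv (MvPolynomial.X i)) = AffineSpace.coord _ i := by
    rw [← AffineSpace.SpecIso_inv_appTop_coord (n := n) (CommRingCat.of k) i, ← CommRingCat.comp_apply,
      ← Scheme.Hom.comp_appTop, Iso.hom_inv_id, Scheme.Hom.id_appTop]
    rfl
  show U.1.topIso.hom (h'.appTop ((Scheme.ΓSpecIso (CommRingCat.of P)).inv (MvPolynomial.X i))) = _
  simp only [h', Scheme.Hom.comp_appTop, CommRingCat.comp_apply]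
  rw [h1, AffineSpace.homOfVector_appTop_coord, Scheme.homOfLE_appTop, LogNCD.sectOn]
  simp only [Scheme.Opens.topIso_hom, ← CommRingCat.comp_apply]
  erw [← Functor.map_comp, ← Functor.map_comp]
  rfl

/-- Distinct variables stay regular modulo each other in flat algebras. -/
theorem dvd_of_dvd_mul_variable {σ : Type u} {B : Type u} [CommRing B] [Algebra (MvPolynomial σ k) B]
    [Module.Flat (MvPolynomial σ k) B] {a b : σ} (hab : a ≠ b) (y : B)
    (h : algebraMap (MvPolynomial σ k) B (MvPolynomial.X a) ∣ algebraMap (MvPolynomial σ k) B (MvPolynomial.X b) * y) :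
    algebraMap (MvPolynomial σ k) B (MvPolynomial.X a) ∣ y := by
  let P := MvPolynomial σ k
  let I : Ideal P := Ideal.span {MvPolynomial.X a}
  have hI : I.IsPrime := by
    rw [Ideal.span_singleton_prime (MvPolynomial.X_ne_zero a)]
    exact MvPolynomial.X_prime
  have reg : IsSMulRegular (P ⧸ I) (MvPolynomial.X b : P) := by
    intro p q hpq
    obtain ⟨p, rfl⟩ := Ideal.Quotient.mk_surjective p
    obtain ⟨q, rfl⟩ := Ideal.Quotient.mk_surjective q
    rw [Ideal.Quotient.eq]
    have : MvPolynomial.X b * (p - q) ∈ I := by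
      rw [mul_sub]; exact Ideal.Quotient.eq.mp hpq
    refine (hI.mem_or_mem this).resolve_left fun hb => hab ?_
    obtain ⟨c, hc⟩ := Ideal.mem_span_singleton'.mp hb
    exact MvPolynomial.X_dvd_X.mp ⟨c, hc.symm.trans (mul_comm _ _)⟩
  have h2 := Module.Flat.lTensor_preserves_injective_linearMap (M := B)
    ((LinearMap.lsmul P (P ⧸ I)) (MvPolynomial.X b : P)) reg
  let e := (Algebra.TensorProduct.quotIdealMapEquivTensorQuot B I).toLinearEquiv
  have key : ∀ z : B ⧸ I.map (algebraMap P B), algebraMap P B (MvPolynomial.X b) • z = 0 → z = 0 := by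
    intro z hz
    have : (LinearMap.lTensor B ((LinearMap.lsmul P (P ⧸ I)) (MvPolynomial.X b : P))) (e z) = 0 := by
      have e1 : ∀ w, (LinearMap.lTensor B ((LinearMap.lsmul P (P ⧸ I)) (MvPolynomial.X b : P))) w =
          algebraMap P B (MvPolynomial.X b) • w := fun w => by
        induction w using TensorProduct.induction_on with
        | zero => simp
        | add w₁ w₂ h₁ h₂ => rw [map_add, h₁, h₂, smul_add]
        | tmul x q =>
          rw [LinearMap.lTensor_tmul, LinearMap.lsmul_apply, TensorProduct.tmul_smul, TensorProduct.smul_tmul',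
            TensorProduct.smul_tmul', algebraMap_smul]
      rw [e1, ← map_smul, hz, map_zero]
    exact e.injective ((h2 (this.trans (map_zero _).symm)).trans (map_zero _).symm)
  rw [← Ideal.mem_span_singleton, ← Set.image_singleton, ← Ideal.map_span] at h ⊢
  rw [← Ideal.Quotient.eq_zero_iff_mem] at h ⊢
  refine key _ ?_
  rw [← Ideal.Quotient.mk_eq_mk, ← Submodule.Quotient.mk_smul, smul_eq_mul]
  exact h

/-- Equations for all components on an affine open. -/
structure Good {r : ℕ} (D : Fin r → X.IdealSheafData) (U : X.affineOpens) (g : Fin r → Γ(X, U.1)) : Prop where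
  eq : ∀ j, (D j).ideal U = Ideal.span {g j}
  ne : ∀ j, g j ≠ 0
  red : ∀ j, _root_.IsReduced (Γ(X, U.1) ⧸ Ideal.span {g j})
  reg : ∀ j l, j ≠ l → ∀ y, g j ∣ g l * y → g j ∣ y

/-- Around every point all components are principal on all small affines. -/
theorem exists_good [IsIntegral X] {r : ℕ} (D : Fin r → X.IdealSheafData) (hD : LogNCD.IsNCD D f) (x : X) :
    ∃ O : X.Opens, x ∈ O ∧ ∀ U : X.affineOpens, U.1 ≤ O → Nonempty U.1 → ∃ g, Good D U g := by
  classical
  by_cases hex : ∃ j, x ∈ (D j).support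
  · obtain ⟨j₀, hj₀⟩ := hex
    obtain ⟨W, hxW, n, v, em, hinj, het, hgen, htop⟩ := hD x ⟨⟨j₀, hj₀⟩⟩
    refine ⟨W, hxW, fun U hU hne => ?_⟩
    obtain ⟨φ, hφ, hφX⟩ := exists_etale_map f W v U hU
    algebraize [φ]
    let g : Fin r → Γ(X, U.1) := fun j =>
      if h : x ∈ (D j).support then LogNCD.sectOn W hU (v (ULift.up (em ⟨j, h⟩))) else 1
    refine ⟨g, ⟨fun j => ?_, fun j => ?_, fun j => ?_, fun j l hjl y => ?_⟩⟩
    · simp only [g]; split_ifs with h
      · exact hgen ⟨j, h⟩ U hU
      · rw [Ideal.span_singleton_one]; exact htop j h U hU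
    · simp only [g]; split_ifs with h
      · exact (isRegularRing_quot_coord f W v U hU _).1
      · exact one_ne_zero
    · by_cases h : x ∈ (D j).support
      · have := (isRegularRing_quot_coord f W v U hU (ULift.up (em ⟨j, h⟩))).2
        rw [show g j = _ from dif_pos h]
        exact Groth.Ega4Algebra1.isReduced_of_isRegularRing _
      · rw [show g j = _ from dif_neg h, Ideal.span_singleton_one]
        have : Subsingleton (Γ(X, U.1) ⧸ (⊤ : Ideal Γ(X, U.1))) := Ideal.Quotient.subsingleton_iff.mpr rfl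
        exact ⟨fun z _ => Subsingleton.elim z 0⟩
    · simp only [g]
      split_ifs with h h'
      · rw [← hφX, ← hφX, ← RingHom.algebraMap_toAlgebra φ]
        refine dvd_of_dvd_mul_variable (fun e => hjl ?_) y
        exact congrArg Subtype.val (hinj (ULift.up_injective e))
      · rw [one_mul]; exact id
      · exact fun _ => one_dvd _
      · exact fun _ => one_dvd _
  · push Not at hex
    have hopen : IsOpen (⋂ j : Fin r, ((D j).support : Set X)ᶜ) :=
      isOpen_iInter_of_finite fun j => (D j).support.isClosed.isOpen_compl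
    refine ⟨⟨_, hopen⟩, Set.mem_iInter.mpr hex, fun U hU hne => ⟨fun _ => 1, ⟨fun j => ?_, fun _ => one_ne_zero,
      fun j => ?_, fun j l _ y _ => one_dvd y⟩⟩⟩
    · rw [Ideal.span_singleton_one]
      exact ideal_eq_top_of_disjoint (D j) U (Set.disjoint_left.mpr fun z hz => Set.mem_iInter.mp (hU hz) j)
    · rw [Ideal.span_singleton_one]
      have : Subsingleton (Γ(X, U.1) ⧸ (⊤ : Ideal Γ(X, U.1))) := Ideal.Quotient.subsingleton_iff.mpr rfl
      exact ⟨fun z _ => Subsingleton.elim z 0⟩

end Groth.Calg6.CycCov
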