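import Groth.Agent.Calg6.CycCov.Local
import Groth.Agent.Calg6.CycCov.Decomp
import Groth.Agent.Calg6.CycCov.Principal
import Groth.Agent.Calg6.CycCov.Irreducible
import Groth.Agent.PicAux.EffCartierLine
import Groth.Agent.PicAux.Powers

/-!
The direct image of the structure sheaf of a cyclic cover.
-/

universe u

set_option autoImplicit false

open CategoryTheory AlgebraicGeometry Opposite TopologicalSpace Groth.PicAux Polynomial

namespace Groth.Calg6.CycCov

variable {X Y : Scheme.{u}} {L : X.Modules} {N : ℕ} {s : Coh.structureModule X ⟶ CohB1.tensorPow L N}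
  {π : Y ⟶ X} (R : _root_.CycCov.Root L N s π)

include R in
/-- Functions on the cover are determined over any non-empty open. -/
theorem secY_ext [IsIntegral X] (hN : N ≠ 0) (hR : _root_.CycCov.IsCover R) (hL : PicF.IsInvertible L)
    {V O : X.Opens} (hO : Nonempty O) (hle : O ≤ V) {x y : Γ(Y, π ⁻¹ᵁ V)}
    (h : resY (π := π) hle x = resY hle y) : x = y := by
  have : IsFinite π := hR.1
  have : ∀ z : Y, _root_.IsReduced (Y.presheaf.stalk z) := fun z => by have := (hR.2.1 z).1; infer_instance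
  have : IsReduced Y := isReduced_of_isReduced_stalk Y
  rw [← sub_eq_zero, ← basicOpen_eq_bot_iff]
  by_contra hne
  obtain ⟨z, hz, hzO⟩ := (dense_preimage R hN hR hL O hO).inter_open_nonempty _ (Y.basicOpen (x - y)).2
    (Set.nonempty_iff_ne_empty.mpr fun h' => hne (SetLike.coe_injective h'))
  have : z ∈ Y.basicOpen (resY (π := π) hle (x - y)) := by
    rw [resY, resX, Scheme.basicOpen_res]
    exact ⟨hzO, hz⟩
  rw [map_sub, h, sub_self, Scheme.basicOpen_zero] at this
  exact this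

/-- A chart for the `i`-th summand. -/
structure SumChart {r : ℕ} (D : Fin r → X.IdealSheafData) (α : Fin r → ℕ) (R : _root_.CycCov.Root L N s π) (i : ℕ) {M : X.Modules}
    (ε : CohB1.tensorMod ((CohB1.tensorMod (CohB1.tensorPow L i) (ClSub.idealMod (_root_.CycCov.floorIdeal D α N i)))) M ≅ Coh.structureModule X) where
  U : X.affineOpens
  ne : Nonempty U.1
  e : Γ(L, U.1)
  he : Gen L U.1 e
  g : Fin r → Γ(X, U.1)
  hg : Good D U g
  k : Γ(ClSub.idealMod (_root_.CycCov.floorIdeal D α N i), U.1)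
  hk : Gen _ U.1 k
  hkG : OmegaSh.idealSect _ U.1 k = ∏ j, g j ^ (i * α j / N)
  m : Γ(M, U.1)
  hm : Gen M U.1 m
  norm : ε.hom.app U.1 (tmulSec (tmulSec (powSec e i) k) m) = oneSec X U.1
  ζ : Γ(Y, π ⁻¹ᵁ U.1)
  hζ : (π.app U.1).hom (∏ j, g j ^ (i * α j / N)) * ζ = R.t U e (isGen_of_gen he) ^ i

variable {r : ℕ} {D : Fin r → X.IdealSheafData} {α : Fin r → ℕ}

/-- The product of local equations is non-zero. -/
theorem Good.prod_ne_zero [IsIntegral X] {U : X.affineOpens} [Nonempty U.1] {g : Fin r → Γ(X, U.1)}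
    (hg : Good D U g) (n : Fin r → ℕ) : (∏ j, g j ^ n j) ≠ 0 :=
  Finset.prod_ne_zero_iff.mpr fun j _ => pow_ne_zero _ (hg.ne j)

include R in
/-- Charts exist in every good open. -/
theorem exists_sumChart [IsIntegral X] (hN : N ≠ 0) (hR : _root_.CycCov.IsCover R) (hL : PicF.IsInvertible L)
    (hs : _root_.CycCov.IsZeroDiv (CohB1.tensorPow L N) s (_root_.CycCov.divIdeal D α))
    {i : ℕ} {M : X.Modules}
    (ε : CohB1.tensorMod ((CohB1.tensorMod (CohB1.tensorPow L i) (ClSub.idealMod (_root_.CycCov.floorIdeal D α N i)))) M ≅ Coh.structureModule X)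
    (U : X.affineOpens) (hne : Nonempty U.1) (e : Γ(L, U.1)) (he : Gen L U.1 e) (g : Fin r → Γ(X, U.1))
    (hg : Good D U g) (m : Γ(M, U.1)) (hm : Gen M U.1 m) :
    ∃ c : SumChart D α R i ε, c.U = U := by
  have : IsFinite π := hR.1
  have := hne
  set G := ∏ j, g j ^ (i * α j / N) with hG
  have hG0 : G ≠ 0 := hg.prod_ne_zero _
  have hI : (_root_.CycCov.floorIdeal D α N i).ideal U = Ideal.span {G} := by
    rw [_root_.CycCov.floorIdeal, ideal_divIdeal]
    simp only [hg.eq, Ideal.span_singleton_pow, Ideal.prod_span_singleton]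
    rfl
  obtain ⟨k, hk⟩ := Groth.OmegaSheaf.exists_idealSect _ U (hI ▸ Ideal.mem_span_singleton_self G)
  have hkgen : Gen _ U.1 k := gen_idealMod U
    (by rw [hk]; exact Divisors.isNzdSec_of_mem U.2 (mem_nonZeroDivisors_of_ne_zero hG0)) (by rw [hk]; exact hI)
  have hgen := (((he.pow i).tensor hkgen).tensor hm).map ε.hom
  obtain ⟨a, ha⟩ := hgen.exists_unit (gen_oneSec U.1)
  -- the root
  obtain ⟨f, hf⟩ := (he.pow N).exists_coeff le_rfl (show Γ(CohB1.tensorPow L N, U.1) from SecTwist.val s U.1)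
  rw [res_self, powSec_eq_lpow] at hf
  have hspan : Ideal.span {f} = Ideal.span {∏ j, g j ^ α j} := by
    rw [← ideal_eq_span hs U he hf, ideal_divIdeal]
    simp only [hg.eq, Ideal.span_singleton_pow, Ideal.prod_span_singleton]
  obtain ⟨v, hv⟩ := Ideal.span_singleton_eq_span_singleton.mp hspan.symm
  have hV : IsAffineOpen (π ⁻¹ᵁ U.1) := U.2.preimage π
  have hGn : (π.app U.1).hom G ∈ nonZeroDivisors Γ(Y, π ⁻¹ᵁ U.1) :=
    mem_nonZeroDivisors_iff_right.mpr fun z hz =>
      eq_zero_of_app_mul R U hN hR hL hG0 (by rw [mul_comm]; exact hz)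
  obtain ⟨ζ, hζ, -⟩ := exists_div (isNormalRing_Γ hR.2.1 hV) hGn (R.t U e (isGen_of_gen he) ^ i) 1 hN
    ((π.app U.1).hom ((v : Γ(X, U.1)) ^ i * ∏ j, g j ^ (i * α j % N))) (by
      rw [pow_one, ← pow_mul, mul_comm i, pow_mul, R.pow_eq U e (isGen_of_gen he) f hf, ← map_pow, ← map_pow, ← map_mul,
        ← hv, mul_pow, ← Finset.prod_pow, hG, ← Finset.prod_pow, mul_left_comm, ← Finset.prod_mul_distrib,
        mul_comm (∏ j, (g j ^ α j) ^ i)]
      refine congrArg _ (congrArg _ (Finset.prod_congr rfl fun j _ => ?_))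
      rw [← pow_mul, ← pow_mul, ← pow_add, mul_comm (α j) i]
      congr 1
      rw [mul_comm (i * α j / N) N, Nat.div_add_mod])
  rw [pow_one] at hζ
  exact ⟨⟨U, hne, e, he, g, hg, k, hkgen, hk, (a : Γ(X, U.1)) • m, hm.smul_unit a.isUnit, by
    rw [tmulSec_smul_right, Scheme.Modules.Hom.app_smul]; exact ha.symm, ζ, hζ.symm⟩, rfl⟩

/-- A section of the pushed forward structure sheaf. -/
noncomputable abbrev toPush {V : X.Opens} (z : Γ(Y, π ⁻¹ᵁ V)) :
    Γ((Scheme.Modules.pushforward π).obj (Coh.structureModule Y), V) := z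

theorem smul_toPush {V : X.Opens} (a : Γ(X, V)) (z : Γ(Y, π ⁻¹ᵁ V)) :
    a • toPush (π := π) z = toPush ((π.app V).hom a * z) := rfl

theorem res_toPush {V W : X.Opens} (h : W ≤ V) (z : Γ(Y, π ⁻¹ᵁ V)) :
    res ((Scheme.Modules.pushforward π).obj (Coh.structureModule Y)) h (toPush z) = toPush (resY h z) := rfl

/-- Two charts give the same morphism. -/
theorem sumChart_compat [IsIntegral X] (hN : N ≠ 0) (hR : _root_.CycCov.IsCover R) (hL : PicF.IsInvertible L)
    {i : ℕ} {M : X.Modules} {ε : CohB1.tensorMod ((CohB1.tensorMod (CohB1.tensorPow L i) (ClSub.idealMod (_root_.CycCov.floorIdeal D α N i)))) M ≅ Coh.structureModule X}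
    (c d : SumChart D α R i ε) (a : Γ(X, c.U.1 ⊓ d.U.1))
    (hacd : res M inf_le_left c.m = a • res M inf_le_right d.m) :
    resY (inf_le_left : c.U.1 ⊓ d.U.1 ≤ c.U.1) c.ζ =
      (π.app (c.U.1 ⊓ d.U.1)).hom a * resY (inf_le_right : c.U.1 ⊓ d.U.1 ≤ d.U.1) d.ζ := by
  obtain ⟨⟨x, hx⟩⟩ := nonempty_inf c.ne d.ne
  obtain ⟨_, ⟨W, hW, rfl⟩, hxW, hWle⟩ := X.isBasis_affineOpens.exists_subset_of_mem_open hx (c.U.1 ⊓ d.U.1).2
  have hne : Nonempty W := ⟨⟨x, hxW⟩⟩
  refine secY_ext R hN hR hL (O := W) hne (fun z hz => hWle hz) ?_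
  have hc : W ≤ c.U.1 := fun z hz => (hWle hz).1
  have hd : W ≤ d.U.1 := fun z hz => (hWle hz).2
  have hWa : W ≤ c.U.1 ⊓ d.U.1 := fun z hz => hWle hz
  set a' := resX X hWa a
  have hm' : res M hc c.m = a' • res M hd d.m := by
    have := congrArg (res M hWa) hacd
    simpa only [res_smul, res_res] using this
  obtain ⟨σ, hσ⟩ := d.he.exists_coeff hd (res L hc c.e)
  obtain ⟨w, hw⟩ := d.hk.exists_coeff hd (res _ hc c.k)
  set Gc := resX X hc (∏ j, c.g j ^ (i * α j / N)) with hGc
  set Gd := resX X hd (∏ j, d.g j ^ (i * α j / N)) with hGd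
  have hwG : Gc = w * Gd := by
    have := congrArg (OmegaSh.idealSect (_root_.CycCov.floorIdeal D α N i) W) hw
    rw [Groth.OmegaSheaf.idealSect_smul, idealSect_res', idealSect_res', c.hkG, d.hkG] at this
    exact this
  have hnorm : σ ^ i * w * a' = 1 := by
    have h1 := congrArg (res _ hc) c.norm
    have h2 := congrArg (res _ hd) d.norm
    rw [← app_res, res_oneSec] at h1 h2
    rw [res_tmulSec, res_tmulSec] at h1 h2
    rw [res_powSec, hσ, powSec_smul, hw, hm'] at h1
    rw [res_powSec] at h2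
    simp only [tmulSec_smul_left, tmulSec_smul_right, Scheme.Modules.Hom.app_smul] at h1
    rw [h2] at h1
    have h3 := congrArg toFun h1
    simp only [toFun_smul, toFun_oneSec] at h3
    rw [← h3]
    ring
  let V : X.affineOpens := ⟨W, hW⟩
  have ht1 := R.t_res c.U V hc c.e (isGen_of_gen c.he) (isGen_of_gen (c.he.res hc))
  have ht2 := R.t_res d.U V hd d.e (isGen_of_gen d.he) (isGen_of_gen (d.he.res hd))
  have hgen : _root_.CycCov.IsGen L W (σ • res L hd d.e) := hσ ▸ isGen_of_gen (c.he.res hc)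
  have ht3 := R.t_smul V (res L hd d.e) (isGen_of_gen (d.he.res hd)) σ hgen
  have htc : resY (π := π) hc (R.t c.U c.e (isGen_of_gen c.he)) * (π.app W).hom σ =
      resY hd (R.t d.U d.e (isGen_of_gen d.he)) := by
    refine Eq.trans ?_ (ht3.trans ht2.symm)
    congr 1
    refine Eq.trans (show _ = R.t V (res L hc c.e) (isGen_of_gen (c.he.res hc)) from ht1) ?_
    congr 1
  have e1 := congrArg (resY (π := π) hc) c.hζ
  have e2 := congrArg (resY (π := π) hd) d.hζ
  rw [map_mul, map_pow, resY_app, ← hGc] at e1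
  rw [map_mul, map_pow, resY_app, ← hGd] at e2
  have hGd0 : Gd ≠ 0 := by
    intro h
    have := d.ne
    exact (d.hg.prod_ne_zero fun j => i * α j / N) (map_injective_of_isIntegral X (homOfLE hd) (h.trans (map_zero _).symm))
  rw [map_mul (resY _), resY_app]
  simp only [resY, resX_resX]
  rw [← sub_eq_zero]
  refine eq_zero_of_app_mul R V hN hR hL hGd0 ?_
  rw [mul_sub, sub_eq_zero, mul_left_comm, e2, ← htc, mul_pow, ← e1, hwG, map_mul, ← map_pow]
  have hn1 := congrArg (π.app W).hom hnorm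
  rw [map_mul, map_mul, map_one] at hn1
  linear_combination (-((π.app W).hom Gd * resY (π := π) hc c.ζ)) * hn1

end Groth.Calg6.CycCov
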